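import Cfsg.Agent.Lib.QDWreath.SemidihedralStructure

/-!
Klein four subgroups and quaternion subgroups of order 8 of quasi-dihedral 2-groups: both have
the shape `{a (k q)} ∪ {b (i + k q)}`.
-/

set_option autoImplicit false

namespace Cfsg.Agent.QDWreath.QDData

variable {S : Type*} [Group S] {n : ℕ} (d : QDData S n)

/-- `T = {a (k q)} ∪ {b (i + k q)}`. -/
def Shape (T : Subgroup S) (q i : ZMod (2 ^ n)) : Prop :=
  ∀ g : S, g ∈ T ↔ ∃ k, g = d.a (k * q) ∨ g = d.b (i + k * q)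

lemma commute_a_b {i j : ZMod (2 ^ n)} :
    d.a j * d.b i = d.b i * d.a j ↔ j = 0 ∨ j = tp n (n - 1) := by
  rw [a_mul_b, b_mul_a]
  have := d.half_eq_two_mul
  constructor
  · intro h
    have h' := d.b_injective h
    have h2 : (2 * j) * (tp n (n - 2) - 1) = 0 := by
      unfold rexp at h'
      linear_combination -h' - j * this
    have hu : IsUnit (tp n (n - 2) - 1) := by simpa using d.isUnit_moveFactor.neg
    exact (two_mul_eq_zero d.one_le).1 (hu.mul_left_eq_zero.1 h2)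
  · intro h
    congr 1
    rcases h with rfl | rfl
    · ring
    · unfold rexp
      linear_combination -d.half_sq + half_mul_two d.one_le

lemma Shape.a_mem {d : QDData S n} {T : Subgroup S} {q i : ZMod (2 ^ n)} (h : Shape d T q i)
    (k : ZMod (2 ^ n)) : d.a (k * q) ∈ T :=
  (h _).2 ⟨k, Or.inl rfl⟩

lemma Shape.b_mem {d : QDData S n} {T : Subgroup S} {q i : ZMod (2 ^ n)} (h : Shape d T q i)
    (k : ZMod (2 ^ n)) : d.b (i + k * q) ∈ T :=
  (h _).2 ⟨k, Or.inr rfl⟩

lemma Shape.a_mem_iff {d : QDData S n} {T : Subgroup S} {q i j : ZMod (2 ^ n)}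
    (h : Shape d T q i) : d.a j ∈ T ↔ ∃ k, j = k * q := by
  rw [h]
  constructor
  · rintro ⟨k, hk | hk⟩
    · exact ⟨k, d.a_injective hk⟩
    · exact absurd hk (d.a_ne_b _ _)
  · rintro ⟨k, rfl⟩; exact ⟨k, Or.inl rfl⟩

lemma Shape.exists_conj {d : QDData S n} {T₁ T₂ : Subgroup S} {q i₁ i₂ : ZMod (2 ^ n)}
    (h₁ : Shape d T₁ q i₁) (h₂ : Shape d T₂ q i₂) (hpar : ∃ l, i₂ = i₁ + 2 * l) :
    ∃ s : S, T₁.map (MulAut.conj s).toMonoidHom = T₂ := by
  obtain ⟨l, rfl⟩ := hpar
  obtain ⟨j, hj⟩ := d.exists_conj_b i₁ l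
  refine ⟨d.a j, Subgroup.ext fun g => ?_⟩
  have ha : ∀ k, d.a j * d.a (k * q) * (d.a j)⁻¹ = d.a (k * q) := fun k => d.conj_a_a _ _
  have hb : ∀ k, d.a j * d.b (i₁ + k * q) * (d.a j)⁻¹ = d.b (i₁ + 2 * l + k * q) := by
    intro k
    rw [conj_a_b] at hj ⊢
    rw [add_right_comm, add_right_inj _ |>.1 (d.b_injective hj)]
  rw [h₂, Subgroup.mem_map]
  constructor
  · rintro ⟨x, hx, rfl⟩
    obtain ⟨k, rfl | rfl⟩ := (h₁ x).1 hx
    · exact ⟨k, Or.inl (ha k)⟩
    · exact ⟨k, Or.inr (hb k)⟩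
  · rintro ⟨k, rfl | rfl⟩
    · exact ⟨_, h₁.a_mem k, ha k⟩
    · exact ⟨_, h₁.b_mem k, hb k⟩

lemma Shape.relIndex_normalizer {d : QDData S n} {T : Subgroup S} {q i p c : ZMod (2 ^ n)}
    (h : Shape d T q i) (hq : q = 2 * p) (hc : tp n (n - 1) = c * q) (hp : ∀ k, p ≠ k * q) :
    T.relIndex (Subgroup.normalizer (T : Set S)) = 2 := by
  haveI := d.finite
  rw [Subgroup.relIndex_eq_two_iff]
  have hconj : ∀ k, d.a p * d.b (i + k * q) * (d.a p)⁻¹ = d.b (i + (k + 1 - c * p) * q) := by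
    intro k
    rw [conj_a_b]; congr 1
    have := d.half_eq_two_mul
    linear_combination -hq + p * this - p * hc
  refine ⟨d.a p, ?_, fun g hg => ?_⟩
  · rw [Subgroup.mem_normalizer_iff]
    intro x
    have key : ∀ x ∈ T, d.a p * x * (d.a p)⁻¹ ∈ T := by
      intro x hx
      obtain ⟨k, rfl | rfl⟩ := (h x).1 hx
      · rw [conj_a_a]; exact hx
      · rw [hconj]; exact h.b_mem _
    refine ⟨key x, fun hx => ?_⟩
    obtain ⟨k, hk | hk⟩ := (h _).1 hx
    · have hxa : x = d.a (k * q) := by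
        calc x = (d.a p)⁻¹ * (d.a p * x * (d.a p)⁻¹) * d.a p := by group
          _ = _ := by rw [hk, a_inv, a_mul_a, a_mul_a]; congr 1; ring
      exact hxa ▸ h.a_mem k
    · have hxb : x = d.b (i + (k - 1 + c * p) * q) := by
        have := hconj (k - 1 + c * p)
        rw [show (k - 1 + c * p + 1 - c * p) = k by ring, ← hk] at this
        exact mul_left_cancel (mul_right_cancel this.symm)
      exact hxb ▸ h.b_mem _
  · have red : ∀ j, d.a j ∈ Subgroup.normalizer (T : Set S) → ∃ k, j = k * p := by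
      intro j hj
      have h1 : d.a j * d.b (i + 0 * q) * (d.a j)⁻¹ ∈ T :=
        ((Subgroup.mem_normalizer_iff.1 hj) _).1 (h.b_mem 0)
      rw [conj_a_b] at h1
      obtain ⟨k, hk | hk⟩ := (h _).1 h1
      · exact absurd hk.symm (d.a_ne_b _ _)
      · have hk' := d.b_injective hk
        have := d.half_eq_two_mul
        have h2 : 2 * j = 2 * ((k + c * j) * p) := by
          linear_combination hk' + (k + c * j) * hq - j * this + j * hc
        rcases two_mul_eq_two_mul d.one_le h2 with e | e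
        · exact ⟨_, e⟩
        · exact ⟨k + c * j + c * 2, e.trans (by rw [hc, hq]; ring)⟩
    have main : ∀ j, d.a j ∈ Subgroup.normalizer (T : Set S) →
        Xor (d.a (j + p) ∈ T) (d.a j ∈ T) := by
      intro j hj
      obtain ⟨k, rfl⟩ := red j hj
      obtain ⟨l, rfl | rfl⟩ := even_or_odd k
      · refine Or.inr ⟨h.a_mem_iff.2 ⟨l, by rw [hq]; ring⟩, fun hc' => ?_⟩
        obtain ⟨m, hm⟩ := h.a_mem_iff.1 hc'
        exact hp (m - l) (by linear_combination hm + l * hq)
      · refine Or.inl ⟨h.a_mem_iff.2 ⟨l + 1, by rw [hq]; ring⟩, fun hc' => ?_⟩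
        obtain ⟨m, hm⟩ := h.a_mem_iff.1 hc'
        exact hp (m - l) (by linear_combination hm + l * hq)
    rcases d.cases g with ⟨j, rfl⟩ | ⟨j, rfl⟩
    · have := main j hg
      rwa [a_mul_a]
    · have hbi : d.b i ∈ T := by simpa using h.b_mem 0
      have e : d.b j = d.a (j - i) * d.b i := by rw [a_mul_b, sub_add_cancel]
      have hn' : d.b i ∈ Subgroup.normalizer (T : Set S) := Subgroup.le_normalizer hbi
      have hja : d.a (j - i) ∈ Subgroup.normalizer (T : Set S) := by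
        rw [e] at hg
        exact (Subgroup.mul_mem_cancel_right _ hn').1 hg
      have e2 : d.b j * d.a p = d.a (j - i + p) * ((d.a p)⁻¹ * d.b i * d.a p) := by
        rw [e, ← a_mul_a]; group
      have hcb : (d.a p)⁻¹ * d.b i * d.a p ∈ T := by
        rw [a_inv, a_mul_b, b_mul_a]
        have := d.half_eq_two_mul
        convert h.b_mem (-1 + c * p) using 2
        unfold rexp
        linear_combination hq + p * hc
      rw [e2, Subgroup.mul_mem_cancel_right _ hcb, e, Subgroup.mul_mem_cancel_right _ hbi]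
      exact main _ hja

lemma klein_shape {T : Subgroup S} (hT : IsKleinFour T) :
    ∃ k, Shape d T (tp n (n - 1)) (2 * k) := by
  haveI := d.finite
  have hn := d.hn
  have hsq : ∀ g ∈ T, g * g = 1 := fun g hg => by
    simpa using congrArg Subtype.val
      (show (⟨g, hg⟩ : T) * ⟨g, hg⟩ = 1 from Monoid.pow_exponent_eq_one (⟨g, hg⟩ : T) |> fun h => by
        rw [hT.exponent_two, pow_two] at h; exact h)
  have ha : ∀ j, d.a j ∈ T → j = 0 ∨ j = tp n (n - 1) := fun j hj => d.a_sq_eq_one.1 (hsq _ hj)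
  obtain ⟨k, hk⟩ : ∃ k, d.b (2 * k) ∈ T := by
    by_contra hne
    simp only [not_exists] at hne
    have hle : (T : Set S) ⊆ {1, d.a (tp n (n - 1))} := by
      intro g hg
      rcases d.cases g with ⟨j, rfl⟩ | ⟨j, rfl⟩
      · rcases ha j hg with rfl | rfl <;> simp
      · obtain ⟨l, rfl | rfl⟩ := even_or_odd j
        · exact absurd hg (hne l)
        · have := hsq _ hg
          rw [b_odd_sq] at this
          exact absurd this d.a_half_ne_one
    have := Set.ncard_le_ncard hle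
    rw [← Nat.card_coe_set_eq, SetLike.coe_sort_coe, hT.card_four,
      Set.ncard_pair d.a_half_ne_one.symm] at this
    omega
  refine ⟨k, ?_⟩
  have hsub : (T : Set S) ⊆ {g | ∃ l, g = d.a (l * tp n (n - 1)) ∨ g = d.b (2 * k + l * tp n (n - 1))} := by
    intro g hg
    rcases d.cases g with ⟨j, rfl⟩ | ⟨j, rfl⟩
    · rcases ha j hg with rfl | rfl
      · exact ⟨0, Or.inl (by simp)⟩
      · exact ⟨1, Or.inl (by simp)⟩
    · have := ha _ (by simpa [b_mul_b, rexp_mul_two, ← sub_eq_add_neg] using T.mul_mem hg hk)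
      rcases this with e | e
      · exact ⟨0, Or.inr (by rw [sub_eq_zero.1 e, zero_mul, add_zero])⟩
      · exact ⟨1, Or.inr (by rw [one_mul, ← e, add_sub_cancel])⟩
  have hset : {g | ∃ l, g = d.a (l * tp n (n - 1)) ∨ g = d.b (2 * k + l * tp n (n - 1))} ⊆
      ({1, d.a (tp n (n - 1)), d.b (2 * k), d.b (2 * k + tp n (n - 1))} : Set S) := by
    rintro g ⟨l, hl⟩
    have hl' : l * tp n (n - 1) = 0 ∨ l * tp n (n - 1) = tp n (n - 1) :=
      (two_mul_eq_zero d.one_le).1 (by linear_combination l * half_mul_two d.one_le)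
    rcases hl' with e | e <;> rw [e] at hl <;> rcases hl with rfl | rfl <;> simp
  have heq : (T : Set S) = _ := Set.eq_of_subset_of_ncard_le hsub (by
    refine (Set.ncard_le_ncard hset).trans ?_
    rw [← Nat.card_coe_set_eq (T : Set S), SetLike.coe_sort_coe, hT.card_four]
    refine (Set.ncard_insert_le _ _).trans (Nat.add_le_add_right ?_ 1)
    refine (Set.ncard_insert_le _ _).trans (Nat.add_le_add_right ?_ 1)
    refine (Set.ncard_insert_le _ _).trans (Nat.add_le_add_right ?_ 1)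
    exact (Set.ncard_singleton _).le)
  intro g
  exact Set.ext_iff.1 heq g

lemma quaternion_shape {Q : Subgroup S} (e : Q ≃* QuaternionGroup 2) :
    ∃ k, Shape d Q (tp n (n - 2)) (2 * k + 1) := by
  haveI := d.finite
  have hn := d.hn
  have hm : 2 * tp n (n - 2) = tp n (n - 1) := d.half_eq_two_mul.symm
  have hcard : Nat.card Q = 8 := by
    rw [Nat.card_congr e.toEquiv, Nat.card_eq_fintype_card, QuaternionGroup.card]
  have h4 : ∀ g ∈ Q, g ^ 4 = 1 := fun g hg => by
    have : ∀ x : QuaternionGroup 2, x ^ 4 = 1 := by decide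
    have := congrArg Subtype.val ((e.map_eq_one_iff).1 (by rw [map_pow]; exact this (e ⟨g, hg⟩)) :
      (⟨g, hg⟩ : Q) ^ 4 = 1)
    simpa using this
  have huniq : ∀ g ∈ Q, g * g = 1 → g ≠ 1 → ∀ g' ∈ Q, g' * g' = 1 → g' ≠ 1 → g = g' := by
    intro g hg hgg hg1 g' hg' hgg' hg1'
    have : ∀ x y : QuaternionGroup 2, x * x = 1 → x ≠ 1 → y * y = 1 → y ≠ 1 → x = y := by decide
    have := this (e ⟨g, hg⟩) (e ⟨g', hg'⟩)
      (by rw [← map_mul, ← map_one e]; exact congrArg e (Subtype.ext hgg))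
      (fun h => hg1 (congrArg Subtype.val (e.map_eq_one_iff.1 h)))
      (by rw [← map_mul, ← map_one e]; exact congrArg e (Subtype.ext hgg'))
      (fun h => hg1' (congrArg Subtype.val (e.map_eq_one_iff.1 h)))
    exact congrArg Subtype.val (e.injective this)
  have ha : ∀ j, d.a j ∈ Q → ∃ l, j = l * tp n (n - 2) := by
    intro j hj
    have h := h4 _ hj
    rw [a_pow] at h
    have h' : 2 * (2 * j) = 0 := by
      have := d.a_injective (h.trans d.a_zero.symm)
      push_cast at this; linear_combination this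
    rcases (two_mul_eq_zero d.one_le).1 h' with e' | e'
    · rcases (two_mul_eq_zero d.one_le).1 e' with rfl | rfl
      · exact ⟨0, by simp⟩
      · exact ⟨2, hm.symm⟩
    · rw [← hm] at e'
      rcases two_mul_eq_two_mul d.one_le e' with rfl | rfl
      · exact ⟨1, by simp⟩
      · exact ⟨3, by linear_combination -hm⟩
  obtain ⟨z, hz, hz1, hz2⟩ : ∃ z ∈ Q, z * z ≠ 1 ∧ (z * z) * (z * z) = 1 := by
    have : ∀ x : QuaternionGroup 2, x = .a 1 → x * x ≠ 1 := by decide
    refine ⟨(e.symm (.a 1) : Q), SetLike.coe_mem _, fun h => ?_, ?_⟩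
    · exact this _ rfl (by
        have h' : (e.symm (.a 1) : Q) * e.symm (.a 1) = 1 := Subtype.ext h
        simpa using congrArg e h')
    · have := h4 _ (SetLike.coe_mem (e.symm (.a 1)))
      rw [← this]; simp [pow_succ, mul_assoc]
  have hah : d.a (tp n (n - 1)) ∈ Q := by
    have : z * z = d.a (tp n (n - 1)) := by
      rcases d.cases z with ⟨j, rfl⟩ | ⟨j, rfl⟩
      · rw [a_mul_a] at hz2 ⊢
        rcases d.a_sq_eq_one.1 hz2 with e' | e'
        · exact absurd (by rw [a_mul_a, e', a_zero]) hz1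
        · rw [e']
      · obtain ⟨l, rfl | rfl⟩ := even_or_odd j
        · exact absurd (d.b_even_sq l) hz1
        · exact d.b_odd_sq l
    exact this ▸ Q.mul_mem hz hz
  have hbodd : ∀ j, d.b j ∈ Q → ∃ l, j = 2 * l + 1 := by
    intro j hj
    obtain ⟨l, rfl | rfl⟩ := even_or_odd j
    · exact absurd (huniq _ hj (d.b_even_sq l) (d.b_ne_one _) _ hah
        (d.a_sq_eq_one.2 (Or.inr rfl)) d.a_half_ne_one) (fun h => d.a_ne_b _ _ h.symm)
    · exact ⟨l, rfl⟩
  obtain ⟨k, hk⟩ : ∃ k, d.b (2 * k + 1) ∈ Q := by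
    by_contra hne
    have hle : Q ≤ d.cyc := by
      intro g hg
      rcases d.cases g with ⟨j, rfl⟩ | ⟨j, rfl⟩
      · exact d.mem_cyc.2 ⟨j, rfl⟩
      · obtain ⟨l, rfl⟩ := hbodd j hg
        exact absurd ⟨l, hg⟩ hne
    obtain ⟨x, y, hxy⟩ : ∃ x y : QuaternionGroup 2, x * y ≠ y * x := ⟨.a 1, .xa 0, by decide⟩
    apply hxy
    obtain ⟨i, hi⟩ := d.mem_cyc.1 (hle (e.symm x).2)
    obtain ⟨j, hj⟩ := d.mem_cyc.1 (hle (e.symm y).2)
    apply e.symm.injective
    rw [map_mul, map_mul]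
    ext
    rw [Subgroup.coe_mul, Subgroup.coe_mul, hi, hj, a_mul_a, a_mul_a, add_comm]
  refine ⟨k, ?_⟩
  have hsub : (Q : Set S) ⊆ {g | ∃ l, g = d.a (l * tp n (n - 2)) ∨ g = d.b (2 * k + 1 + l * tp n (n - 2))} := by
    intro g hg
    rcases d.cases g with ⟨j, rfl⟩ | ⟨j, rfl⟩
    · obtain ⟨l, rfl⟩ := ha j hg; exact ⟨l, Or.inl rfl⟩
    · have := Q.mul_mem hg (Q.inv_mem hk)
      rw [b_inv, b_mul_b] at this
      obtain ⟨l, hl⟩ := ha _ this
      exact ⟨l, Or.inr (by congr 1; linear_combination hl + (2 * k + 1) * d.rexp_sq)⟩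
  have hset : {g | ∃ l, g = d.a (l * tp n (n - 2)) ∨ g = d.b (2 * k + 1 + l * tp n (n - 2))} ⊆
      (fun p : Fin 4 × Bool => if p.2 then d.a ((p.1.val : ZMod (2 ^ n)) * tp n (n - 2))
        else d.b (2 * k + 1 + (p.1.val : ZMod (2 ^ n)) * tp n (n - 2))) '' Set.univ := by
    rintro g ⟨l, hl⟩
    obtain ⟨l, rfl⟩ := ZMod.natCast_zmod_surjective l
    have e4 : (l : ZMod (2 ^ n)) * tp n (n - 2) = ((l % 4 : ℕ) : ZMod (2 ^ n)) * tp n (n - 2) := by
      conv_lhs => rw [← Nat.mod_add_div l 4]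
      push_cast
      linear_combination ((l / 4 : ℕ) : ZMod (2 ^ n)) * (2 * hm + half_mul_two d.one_le)
    rw [e4] at hl
    rcases hl with rfl | rfl
    · exact ⟨(⟨l % 4, Nat.mod_lt _ (by norm_num)⟩, true), trivial, by simp⟩
    · exact ⟨(⟨l % 4, Nat.mod_lt _ (by norm_num)⟩, false), trivial, by simp⟩
  have heq : (Q : Set S) = _ := Set.eq_of_subset_of_ncard_le hsub (by
    refine (Set.ncard_le_ncard hset).trans ((Set.ncard_image_le Set.finite_univ).trans ?_)
    rw [← Nat.card_coe_set_eq (Q : Set S), SetLike.coe_sort_coe, hcard, Set.ncard_univ]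
    simp)
  intro g
  exact Set.ext_iff.1 heq g

end Cfsg.Agent.QDWreath.QDData
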