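import Cfsg.Agent.Lib.QDWreath.Arith

/-!
Quasi-dihedral (semidihedral) 2-groups of order `2 ^ (n+1)`: coordinates `a i = x ^ i`,
`b i = x ^ i * y` over `ZMod (2 ^ n)`, multiplication table, the three maximal subgroups
`cyc`, `quat`, `dih` (as ranges of `cycHom`, `quatHom`, `dihHom`).
-/

set_option autoImplicit false

namespace Cfsg.Agent.QDWreath

/-- Generators of a quasi-dihedral group of order `2 ^ (n + 1)`. -/
structure QDData (S : Type*) [Group S] (n : ℕ) where
  x : S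
  y : S
  hn : 3 ≤ n
  card : Nat.card S = 2 ^ (n + 1)
  order_x : orderOf x = 2 ^ n
  order_y : orderOf y = 2
  rel : y * x * y⁻¹ = x ^ (2 ^ (n - 1) - 1)

lemma nonempty_qdData {S : Type*} [Group S] (h : Cfsg.IsQuasiDihedral S) :
    ∃ n, Nonempty (QDData S n) := by
  obtain ⟨n, hn, hc, x, y, hx, hy, hr⟩ := h
  exact ⟨n, ⟨⟨x, y, hn, hc, hx, hy, hr⟩⟩⟩

/-- The same, with the order prescribed. -/
lemma qdData_of_card {S : Type*} [Group S] (h : Cfsg.IsQuasiDihedral S) {n : ℕ}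
    (hn : Nat.card S = 2 ^ (n + 1)) : Nonempty (QDData S n) := by
  obtain ⟨m, ⟨d⟩⟩ := nonempty_qdData h
  have := Nat.pow_right_injective (le_refl 2) (d.card.symm.trans hn)
  obtain rfl : m = n := by omega
  exact ⟨d⟩

namespace QDData

variable {S : Type*} [Group S] {n : ℕ} (d : QDData S n)

/-- `x ^ i`. -/
def a (i : ZMod (2 ^ n)) : S := d.x ^ i.val

/-- `x ^ i * y`. -/
def b (i : ZMod (2 ^ n)) : S := d.a i * d.y

/-- The exponent `2^(n-1) - 1` by which `y` acts. -/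
def rexp (_d : QDData S n) : ZMod (2 ^ n) := tp n (n - 1) - 1

lemma a_natCast (k : ℕ) : d.a (k : ZMod (2 ^ n)) = d.x ^ k := by
  simp only [a, ZMod.val_natCast]
  rw [← d.order_x, pow_mod_orderOf]

lemma a_one' : d.a 1 = d.x := by simpa using d.a_natCast 1

@[simp] lemma a_zero : d.a 0 = 1 := by simp [a]

lemma a_add (i j : ZMod (2 ^ n)) : d.a (i + j) = d.a i * d.a j := by
  obtain ⟨i, rfl⟩ := ZMod.natCast_zmod_surjective i
  obtain ⟨j, rfl⟩ := ZMod.natCast_zmod_surjective j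
  rw [← Nat.cast_add, a_natCast, a_natCast, a_natCast, pow_add]

lemma a_neg (i : ZMod (2 ^ n)) : d.a (-i) = (d.a i)⁻¹ := by
  rw [eq_inv_iff_mul_eq_one, ← a_add, neg_add_cancel, a_zero]

lemma a_injective : Function.Injective d.a := by
  intro i j h
  have h' := pow_inj_mod.1 h
  rw [d.order_x, Nat.mod_eq_of_lt i.val_lt, Nat.mod_eq_of_lt j.val_lt] at h'
  exact ZMod.val_injective _ h'

lemma y_mul_y : d.y * d.y = 1 := by
  rw [← pow_two, ← d.order_y, pow_orderOf_eq_one]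

lemma conj_x : d.y * d.x * d.y⁻¹ = d.a d.rexp := by
  rw [d.rel]
  have h1 : 1 ≤ 2 ^ (n - 1) := Nat.one_le_two_pow
  have : ((2 ^ (n - 1) - 1 : ℕ) : ZMod (2 ^ n)) = d.rexp := by
    rw [Nat.cast_sub h1]; simp [rexp, tp]
  rw [← this, a_natCast]

lemma y_mul_a (i : ZMod (2 ^ n)) : d.y * d.a i = d.a (d.rexp * i) * d.y := by
  obtain ⟨i, rfl⟩ := ZMod.natCast_zmod_surjective i
  obtain ⟨r, hr⟩ := ZMod.natCast_zmod_surjective d.rexp
  rw [← hr, ← Nat.cast_mul, a_natCast, a_natCast, pow_mul, ← a_natCast d r, hr, ← d.conj_x,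
    conj_pow]
  group

lemma a_mul_a (i j : ZMod (2 ^ n)) : d.a i * d.a j = d.a (i + j) := (d.a_add i j).symm

lemma a_mul_b (i j : ZMod (2 ^ n)) : d.a i * d.b j = d.b (i + j) := by
  rw [b, b, a_add, mul_assoc]

lemma b_mul_a (i j : ZMod (2 ^ n)) : d.b i * d.a j = d.b (i + d.rexp * j) := by
  rw [b, b, mul_assoc, y_mul_a, ← mul_assoc, a_mul_a]

lemma b_mul_b (i j : ZMod (2 ^ n)) : d.b i * d.b j = d.a (i + d.rexp * j) := by
  rw [show d.b j = d.a j * d.y from rfl, ← mul_assoc, b_mul_a, b, mul_assoc, y_mul_y, mul_one]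

lemma one_le (d : QDData S n) : 1 ≤ n := le_trans (by norm_num) d.hn

lemma half_sq (d : QDData S n) : tp n (n - 1) * tp n (n - 1) = 0 := by
  rw [tp_mul_tp]
  exact tp_eq_zero _ _ (by have := d.hn; omega)

lemma rexp_sq : d.rexp * d.rexp = 1 := by
  unfold rexp
  linear_combination d.half_sq - half_mul_two d.one_le

lemma half_eq_two_mul (d : QDData S n) : tp n (n - 1) = 2 * tp n (n - 2) :=
  (two_mul_tp n (n - 2) (n - 1) (by have := d.hn; omega)).symm

lemma rexp_mul_two (k : ZMod (2 ^ n)) : d.rexp * (2 * k) = -(2 * k) := by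
  unfold rexp
  linear_combination k * half_mul_two d.one_le

lemma rexp_mul_odd (k : ZMod (2 ^ n)) :
    d.rexp * (2 * k + 1) = tp n (n - 1) - (2 * k + 1) := by
  unfold rexp
  linear_combination k * half_mul_two d.one_le

lemma a_inv (i : ZMod (2 ^ n)) : (d.a i)⁻¹ = d.a (-i) := (d.a_neg i).symm

lemma b_inv (i : ZMod (2 ^ n)) : (d.b i)⁻¹ = d.b (-(d.rexp * i)) := by
  rw [inv_eq_iff_mul_eq_one, b_mul_b]
  convert d.a_zero using 2
  linear_combination -i * d.rexp_sq

lemma rexp_ne_one : d.rexp ≠ 1 := by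
  intro h
  have h2 : tp n (n - 1) = tp n 1 := by
    rw [tp_one]; unfold rexp at h; linear_combination h
  have h3 := congrArg (fun t => tp n (n - 2) * t) h2
  simp only [tp_mul_tp] at h3
  have := d.hn
  rw [tp_eq_zero n (n - 2 + (n - 1)) (by omega)] at h3
  exact tp_ne_zero n (n - 2 + 1) (by omega) h3.symm

lemma a_ne_b (i j : ZMod (2 ^ n)) : d.a i ≠ d.b j := by
  intro h
  have hy : d.y = d.a (i - j) := by
    have : d.a (i - j) = d.a (-j) * d.b j := by
      rw [← h, a_mul_a, neg_add_eq_sub]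
    rw [this, a_mul_b, neg_add_cancel, b, a_zero, one_mul]
  have h2 := d.y_mul_a 1
  rw [hy, a_mul_a, a_mul_a] at h2
  have h3 := d.a_injective h2
  apply d.rexp_ne_one
  linear_combination -h3

lemma b_injective : Function.Injective d.b := fun _ _ h => d.a_injective (mul_right_cancel h)

lemma finite (d : QDData S n) : Finite S := Nat.finite_of_card_ne_zero (by rw [d.card]; simp)

lemma cases (d : QDData S n) (g : S) : (∃ i, g = d.a i) ∨ (∃ i, g = d.b i) := by
  haveI := d.finite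
  let f : ZMod (2 ^ n) ⊕ ZMod (2 ^ n) → S := Sum.elim d.a d.b
  have hf : Function.Injective f :=
    d.a_injective.sumElim d.b_injective d.a_ne_b
  have hs : Function.Surjective f := by
    apply (Nat.bijective_iff_injective_and_card f).2 ⟨hf, _⟩ |>.2
    rw [Nat.card_sum, Nat.card_zmod, d.card, pow_succ, mul_two]
  obtain ⟨(i | i), hi⟩ := hs g
  · exact Or.inl ⟨i, hi.symm⟩
  · exact Or.inr ⟨i, hi.symm⟩

lemma conj_a_a (j i : ZMod (2 ^ n)) : d.a j * d.a i * (d.a j)⁻¹ = d.a i := by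
  rw [a_inv, a_mul_a, a_mul_a]; congr 1; ring

lemma conj_b_a (j i : ZMod (2 ^ n)) : d.b j * d.a i * (d.b j)⁻¹ = d.a (d.rexp * i) := by
  rw [b_inv, b_mul_a, b_mul_b]; congr 1
  linear_combination -j * d.rexp_sq

/-- The factor `2 - 2^(n-1) = 2 * unit` by which `a j` moves `b i`. -/
lemma conj_a_b (j i : ZMod (2 ^ n)) :
    d.a j * d.b i * (d.a j)⁻¹ = d.b (i + 2 * ((1 - tp n (n - 2)) * j)) := by
  rw [a_inv, a_mul_b, b_mul_a]; congr 1
  have := d.half_eq_two_mul
  unfold rexp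
  linear_combination -j * this

lemma isUnit_moveFactor (d : QDData S n) : IsUnit (1 - tp n (n - 2)) := by
  have := d.hn
  have h : tp n (n - 2) = 2 * tp n (n - 3) := (two_mul_tp n (n - 3) (n - 2) (by omega)).symm
  have h' := isUnit_odd (n := n) (-tp n (n - 3))
  convert h' using 1
  linear_combination -h

lemma exists_conj_b (i k : ZMod (2 ^ n)) :
    ∃ j, d.a j * d.b i * (d.a j)⁻¹ = d.b (i + 2 * k) := by
  obtain ⟨u, hu⟩ := d.isUnit_moveFactor
  refine ⟨(u⁻¹ : (ZMod (2 ^ n))ˣ) * k, ?_⟩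
  rw [conj_a_b, ← hu]
  congr 1
  linear_combination (2 * k) * u.mul_inv

lemma conj_a_gen (j i : ZMod (2 ^ n)) :
    ∃ k, d.a j * d.b i * (d.a j)⁻¹ = d.b (i + 2 * k) := ⟨_, d.conj_a_b j i⟩

lemma a_pow (i : ZMod (2 ^ n)) (k : ℕ) : (d.a i) ^ k = d.a (k * i) := by
  induction k with
  | zero => simp
  | succ k ih => rw [pow_succ, ih, a_mul_a]; congr 1; push_cast; ring

lemma b_even_sq (k : ZMod (2 ^ n)) : d.b (2 * k) * d.b (2 * k) = 1 := by
  rw [b_mul_b, rexp_mul_two, add_neg_cancel, a_zero]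

lemma b_odd_sq (k : ZMod (2 ^ n)) :
    d.b (2 * k + 1) * d.b (2 * k + 1) = d.a (tp n (n - 1)) := by
  rw [b_mul_b, rexp_mul_odd]; congr 1; ring

lemma a_half_ne_one : d.a (tp n (n - 1)) ≠ 1 := fun h =>
  tp_ne_zero n (n - 1) (by have := d.hn; omega) (d.a_injective (h.trans d.a_zero.symm))

lemma b_ne_one (i : ZMod (2 ^ n)) : d.b i ≠ 1 := fun h =>
  d.a_ne_b 0 i (d.a_zero.trans h.symm)

lemma a_sq_eq_one {i : ZMod (2 ^ n)} :
    d.a i * d.a i = 1 ↔ i = 0 ∨ i = tp n (n - 1) := by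
  rw [a_mul_a, ← two_mul_eq_zero d.one_le, ← two_mul]
  exact ⟨fun h => d.a_injective (h.trans d.a_zero.symm), fun h => by rw [h, a_zero]⟩

lemma orderOf_b_even (k : ZMod (2 ^ n)) : orderOf (d.b (2 * k)) = 2 :=
  orderOf_eq_prime (by rw [pow_two]; exact d.b_even_sq k) (d.b_ne_one _)

lemma orderOf_a_half : orderOf (d.a (tp n (n - 1))) = 2 :=
  orderOf_eq_prime (by rw [pow_two]; exact d.a_sq_eq_one.2 (Or.inr rfl)) d.a_half_ne_one

lemma orderOf_b_odd (k : ZMod (2 ^ n)) : orderOf (d.b (2 * k + 1)) = 4 := by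
  have h : orderOf (d.b (2 * k + 1)) = 2 ^ (1 + 1) := by
    refine orderOf_eq_prime_pow ?_ ?_
    · rw [pow_one, pow_two, b_odd_sq]; exact d.a_half_ne_one
    · rw [pow_succ 2 1, pow_one, pow_mul, pow_two, pow_two, b_odd_sq]
      exact d.a_sq_eq_one.2 (Or.inr rfl)
  simpa using h

lemma orderOf_eq_two_cases {g : S} (h : orderOf g = 2) :
    g = d.a (tp n (n - 1)) ∨ ∃ k, g = d.b (2 * k) := by
  have hg : g * g = 1 := by rw [← pow_two, ← h, pow_orderOf_eq_one]
  have hg1 : g ≠ 1 := by intro e; rw [e, orderOf_one] at h; exact absurd h (by norm_num)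
  rcases d.cases g with ⟨i, rfl⟩ | ⟨i, rfl⟩
  · rcases d.a_sq_eq_one.1 hg with h0 | h0
    · exact absurd (by rw [h0, a_zero]) hg1
    · exact Or.inl (by rw [h0])
  · obtain ⟨k, rfl | rfl⟩ := even_or_odd i
    · exact Or.inr ⟨k, rfl⟩
    · rw [b_odd_sq] at hg; exact absurd hg d.a_half_ne_one

/-- The homomorphism onto the cyclic maximal subgroup. -/
def cycHom : Multiplicative (ZMod (2 ^ n)) →* S where
  toFun i := d.a i.toAdd
  map_one' := by simp
  map_mul' i j := by simp [a_add]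

/-- Doubling `ZMod (2^(n-1)) → ZMod (2^n)` (written with an arbitrary modulus). -/
def dbl (n m : ℕ) : ZMod m → ZMod (2 ^ n) := fun i => 2 * (i.val : ZMod (2 ^ n))

lemma dbl_natCast {n m : ℕ} [NeZero m] (hm : 2 * m = 2 ^ n) (k : ℕ) :
    dbl n m (k : ZMod m) = 2 * (k : ZMod (2 ^ n)) := by
  unfold dbl
  rw [ZMod.val_natCast]
  conv_rhs => rw [← Nat.mod_add_div k m]
  have h0 : (2 : ZMod (2 ^ n)) * (m : ZMod (2 ^ n)) = 0 := by
    have : ((2 * m : ℕ) : ZMod (2 ^ n)) = 0 := by rw [hm]; exact ZMod.natCast_self _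
    simpa using this
  push_cast
  linear_combination -((k / m : ℕ) : ZMod (2 ^ n)) * h0

lemma dbl_add {n m : ℕ} [NeZero m] (hm : 2 * m = 2 ^ n) (i j : ZMod m) :
    dbl n m (i + j) = dbl n m i + dbl n m j := by
  obtain ⟨i, rfl⟩ := ZMod.natCast_zmod_surjective i
  obtain ⟨j, rfl⟩ := ZMod.natCast_zmod_surjective j
  rw [← Nat.cast_add, dbl_natCast hm, dbl_natCast hm, dbl_natCast hm]
  push_cast; ring

lemma dbl_sub {n m : ℕ} [NeZero m] (hm : 2 * m = 2 ^ n) (i j : ZMod m) :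
    dbl n m (i - j) = dbl n m i - dbl n m j := by
  have := dbl_add hm (i - j) j
  rw [sub_add_cancel] at this
  rw [this]; ring

lemma dbl_injective {n m : ℕ} [NeZero m] (hm : 2 * m = 2 ^ n) :
    Function.Injective (dbl n m) := by
  intro i j h
  obtain ⟨i, rfl⟩ := ZMod.natCast_zmod_surjective i
  obtain ⟨j, rfl⟩ := ZMod.natCast_zmod_surjective j
  rw [dbl_natCast hm, dbl_natCast hm] at h
  have h' : ((2 * i : ℕ) : ZMod (2 ^ n)) = ((2 * j : ℕ) : ZMod (2 ^ n)) := by push_cast; exact h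
  rw [ZMod.natCast_eq_natCast_iff, ← hm] at h'
  rw [ZMod.natCast_eq_natCast_iff]
  exact Nat.ModEq.mul_left_cancel' (by norm_num) h'

lemma exists_dbl {n m : ℕ} [NeZero m] (hm : 2 * m = 2 ^ n) (k : ZMod (2 ^ n)) :
    ∃ i : ZMod m, dbl n m i = 2 * k := by
  obtain ⟨k, rfl⟩ := ZMod.natCast_zmod_surjective k
  exact ⟨k, dbl_natCast hm k⟩

lemma dbl_even (n m : ℕ) (i : ZMod m) : ∃ k, dbl n m i = 2 * k := ⟨_, rfl⟩

lemma two_mul_dihIndex (d : QDData S n) : 2 * 2 ^ (n - 1) = 2 ^ n := by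
  rw [← pow_succ']; congr 1; have := d.hn; omega

lemma two_mul_quatIndex (d : QDData S n) : 2 * (2 * 2 ^ (n - 2)) = 2 ^ n := by
  rw [← pow_succ', ← pow_succ']; congr 1; have := d.hn; omega

/-- The dihedral maximal subgroup as an embedded `DihedralGroup (2^(n-1))`. -/
def dihHom : DihedralGroup (2 ^ (n - 1)) →* S where
  toFun g := match g with
    | .r i => d.a (dbl n _ i)
    | .sr i => d.b (- dbl n _ i)
  map_one' := by
    show d.a (dbl n _ (0 : ZMod (2 ^ (n - 1)))) = 1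
    simp [dbl]
  map_mul' g h := by
    have e := d.two_mul_dihIndex
    rcases g with i | i <;> rcases h with j | j <;>
      simp only [DihedralGroup.r_mul_r, DihedralGroup.r_mul_sr, DihedralGroup.sr_mul_r,
        DihedralGroup.sr_mul_sr, a_mul_a, a_mul_b, b_mul_a, b_mul_b]
    · rw [dbl_add e]
    · rw [dbl_sub e]; congr 1; ring
    · obtain ⟨k, hk⟩ := dbl_even n _ j
      rw [dbl_add e, hk, rexp_mul_two]; congr 1; ring
    · obtain ⟨k, hk⟩ := dbl_even n _ j
      rw [dbl_sub e, hk, mul_neg, rexp_mul_two]; congr 1; ring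

/-- The generalised quaternion maximal subgroup as an embedded `QuaternionGroup (2^(n-2))`. -/
def quatHom : QuaternionGroup (2 ^ (n - 2)) →* S where
  toFun g := match g with
    | .a i => d.a (dbl n _ i)
    | .xa i => d.b (1 - dbl n _ i)
  map_one' := by
    show d.a (dbl n _ (0 : ZMod (2 * 2 ^ (n - 2)))) = 1
    simp [dbl]
  map_mul' g h := by
    have e := d.two_mul_quatIndex
    rcases g with i | i <;> rcases h with j | j <;>
      simp only [QuaternionGroup.a_mul_a, QuaternionGroup.a_mul_xa, QuaternionGroup.xa_mul_a,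
        QuaternionGroup.xa_mul_xa, a_mul_a, a_mul_b, b_mul_a, b_mul_b]
    · rw [dbl_add e]
    · rw [dbl_sub e]; congr 1; ring
    · obtain ⟨k, hk⟩ := dbl_even n _ j
      rw [dbl_add e, hk, rexp_mul_two]; congr 1; ring
    · obtain ⟨k, hk⟩ := dbl_even n _ j
      rw [dbl_sub e, dbl_add e, dbl_natCast e, hk]
      congr 1
      have hh : tp n (n - 1) = 2 * ((2 ^ (n - 2) : ℕ) : ZMod (2 ^ n)) := d.half_eq_two_mul
      have h2 := d.rexp_mul_two k
      unfold rexp at *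
      push_cast at *
      linear_combination -hh + h2

/-- The cyclic maximal subgroup. -/
def cyc : Subgroup S := d.cycHom.range

/-- The dihedral maximal subgroup. -/
def dih : Subgroup S := d.dihHom.range

/-- The generalised quaternion maximal subgroup. -/
def quat : Subgroup S := d.quatHom.range

lemma mem_cyc {g : S} : g ∈ d.cyc ↔ ∃ i, g = d.a i :=
  ⟨fun ⟨i, hi⟩ => ⟨i.toAdd, hi.symm⟩, fun ⟨i, hi⟩ => ⟨Multiplicative.ofAdd i, hi.symm⟩⟩

lemma mem_dih {g : S} : g ∈ d.dih ↔ ∃ k, g = d.a (2 * k) ∨ g = d.b (2 * k) := by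
  constructor
  · rintro ⟨i | i, rfl⟩
    · exact ⟨_, Or.inl rfl⟩
    · refine ⟨-((i.val : ℕ) : ZMod (2 ^ n)), Or.inr ?_⟩
      show d.b _ = _
      unfold dbl; congr 1; ring
  · rintro ⟨k, rfl | rfl⟩
    · obtain ⟨i, hi⟩ := exists_dbl d.two_mul_dihIndex k
      exact ⟨.r i, by show d.a _ = _; rw [hi]⟩
    · obtain ⟨i, hi⟩ := exists_dbl d.two_mul_dihIndex (-k)
      exact ⟨.sr i, by show d.b _ = _; rw [hi]; congr 1; ring⟩

lemma mem_quat {g : S} : g ∈ d.quat ↔ ∃ k, g = d.a (2 * k) ∨ g = d.b (2 * k + 1) := by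
  constructor
  · rintro ⟨i | i, rfl⟩
    · exact ⟨_, Or.inl rfl⟩
    · refine ⟨-((i.val : ℕ) : ZMod (2 ^ n)), Or.inr ?_⟩
      show d.b _ = _
      unfold dbl; congr 1; ring
  · rintro ⟨k, rfl | rfl⟩
    · obtain ⟨i, hi⟩ := exists_dbl d.two_mul_quatIndex k
      exact ⟨.a i, by show d.a _ = _; rw [hi]⟩
    · obtain ⟨i, hi⟩ := exists_dbl d.two_mul_quatIndex (-k)
      exact ⟨.xa i, by show d.b _ = _; rw [hi]; congr 1; ring⟩

lemma cycHom_injective : Function.Injective d.cycHom := fun _ _ h =>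
  Multiplicative.toAdd.injective (d.a_injective h)

lemma dihHom_injective : Function.Injective d.dihHom := by
  rintro (i | i) (j | j) h
  · exact congrArg _ (dbl_injective d.two_mul_dihIndex (d.a_injective h))
  · exact absurd h (d.a_ne_b _ _)
  · exact absurd h.symm (d.a_ne_b _ _)
  · exact congrArg _ (dbl_injective d.two_mul_dihIndex (neg_injective (d.b_injective h)))

lemma quatHom_injective : Function.Injective d.quatHom := by
  rintro (i | i) (j | j) h
  · exact congrArg _ (dbl_injective d.two_mul_quatIndex (d.a_injective h))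
  · exact absurd h (d.a_ne_b _ _)
  · exact absurd h.symm (d.a_ne_b _ _)
  · exact congrArg _ (dbl_injective d.two_mul_quatIndex (sub_right_injective (d.b_injective h)))

/-- The dihedral maximal subgroup is dihedral. -/
lemma nonempty_dih_equiv : Nonempty (d.dih ≃* DihedralGroup (2 ^ (n - 1))) :=
  ⟨(MonoidHom.ofInjective d.dihHom_injective).symm⟩

/-- The quaternion maximal subgroup is generalised quaternion. -/
lemma nonempty_quat_equiv : Nonempty (d.quat ≃* QuaternionGroup (2 ^ (n - 2))) :=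
  ⟨(MonoidHom.ofInjective d.quatHom_injective).symm⟩

lemma isCyclic_cyc : IsCyclic d.cyc :=
  isCyclic_of_surjective d.cycHom.rangeRestrict d.cycHom.rangeRestrict_surjective

lemma eq_cyc_of_mem {M : Subgroup S} (hM : M ≠ ⊤)
    (h2 : ∀ k, d.a (2 * k) ∈ M) : M ≤ d.cyc ∨ M ≤ d.dih ∨ M ≤ d.quat := by
  by_contra hc
  simp only [not_or, SetLike.not_le_iff_exists] at hc
  obtain ⟨⟨g1, hg1, hg1'⟩, ⟨g2, hg2, hg2'⟩, ⟨g3, hg3, hg3'⟩⟩ := hc
  -- `g1` is some `b i`
  obtain ⟨i, rfl⟩ : ∃ i, g1 = d.b i := (d.cases g1).resolve_left (fun ⟨i, hi⟩ => hg1' (d.mem_cyc.2 ⟨i, hi⟩))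
  -- we get an odd `a`
  have key : ∃ k, d.a (2 * k + 1) ∈ M := by
    obtain ⟨k, rfl | rfl⟩ := even_or_odd i
    · rcases d.cases g2 with ⟨j, rfl⟩ | ⟨j, rfl⟩
      · obtain ⟨l, rfl | rfl⟩ := even_or_odd j
        · exact absurd (d.mem_dih.2 ⟨l, Or.inl rfl⟩) hg2'
        · exact ⟨l, hg2⟩
      · obtain ⟨l, rfl | rfl⟩ := even_or_odd j
        · exact absurd (d.mem_dih.2 ⟨l, Or.inr rfl⟩) hg2'
        · refine ⟨l - k, ?_⟩
          have := M.mul_mem hg2 hg1
          rw [b_mul_b, rexp_mul_two] at this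
          convert this using 2; ring
    · rcases d.cases g3 with ⟨j, rfl⟩ | ⟨j, rfl⟩
      · obtain ⟨l, rfl | rfl⟩ := even_or_odd j
        · exact absurd (d.mem_quat.2 ⟨l, Or.inl rfl⟩) hg3'
        · exact ⟨l, hg3⟩
      · obtain ⟨l, rfl | rfl⟩ := even_or_odd j
        · refine ⟨k - l, ?_⟩
          have := M.mul_mem hg1 hg3
          rw [b_mul_b, rexp_mul_two] at this
          convert this using 2; ring
        · exact absurd (d.mem_quat.2 ⟨l, Or.inr rfl⟩) hg3'
  obtain ⟨k, hk⟩ := key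
  have ha : ∀ j, d.a j ∈ M := by
    intro j
    obtain ⟨l, rfl | rfl⟩ := even_or_odd j
    · exact h2 l
    · have := M.mul_mem hk (h2 (l - k))
      rw [a_mul_a] at this
      convert this using 2; ring
  apply hM
  rw [eq_top_iff]
  intro g _
  rcases d.cases g with ⟨j, rfl⟩ | ⟨j, rfl⟩
  · exact ha j
  · have := M.mul_mem (ha (j - i)) hg1
    rw [a_mul_b] at this
    convert this using 2; ring

end QDData

end Cfsg.Agent.QDWreath
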