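import Cfsg.Agent.Lib.QDWreath.Semidihedral

/-!
Maximal subgroups, derived subgroup, Frattini subgroup, centre of quasi-dihedral 2-groups.
-/

set_option autoImplicit false

open scoped commutatorElement

namespace Cfsg.Agent.QDWreath.QDData

variable {S : Type*} [Group S] {n : ℕ} (d : QDData S n)

/-- `⟨x²⟩`. -/
def evenHom : Multiplicative (ZMod (2 ^ (n - 1))) →* S where
  toFun i := d.a (dbl n _ i.toAdd)
  map_one' := by simp [dbl]
  map_mul' i j := by simp [dbl_add d.two_mul_dihIndex, a_add]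

/-- `⟨x²⟩` as a subgroup. -/
def even : Subgroup S := d.evenHom.range

lemma mem_even {g : S} : g ∈ d.even ↔ ∃ k, g = d.a (2 * k) := by
  constructor
  · rintro ⟨i, rfl⟩; exact ⟨_, rfl⟩
  · rintro ⟨k, rfl⟩
    obtain ⟨i, hi⟩ := exists_dbl d.two_mul_dihIndex k
    exact ⟨Multiplicative.ofAdd i, by show d.a _ = _; rw [toAdd_ofAdd, hi]⟩

lemma isCyclic_even : IsCyclic d.even :=
  isCyclic_of_surjective d.evenHom.rangeRestrict d.evenHom.rangeRestrict_surjective

lemma card_even : Nat.card d.even = 2 ^ (n - 1) := by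
  have h : Function.Injective d.evenHom := fun i j h =>
    Multiplicative.toAdd.injective (dbl_injective d.two_mul_dihIndex (d.a_injective h))
  rw [show d.even = d.evenHom.range from rfl, ← Nat.card_congr (MonoidHom.ofInjective h).toEquiv,
    Nat.card_congr Multiplicative.toAdd, Nat.card_zmod]

lemma isCoatom_of_even {M : Subgroup S} (hM : M ≠ ⊤) (h2 : ∀ k, d.a (2 * k) ∈ M)
    {g : S} (hg : g ∈ M) {i : ZMod (2 ^ n)} (hgb : g = d.b i := by rfl) : IsCoatom M := by
  subst hgb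
  refine ⟨hM, fun K hK => ?_⟩
  by_contra hKt
  obtain ⟨k, hkK, hkM⟩ := SetLike.exists_of_lt hK
  have hb : ∀ j, d.b (i + 2 * j) ∈ M := fun j => by
    have := M.mul_mem (h2 j) hg
    rw [a_mul_b, add_comm] at this
    exact this
  -- an odd power of `x` lies in `K`
  have key : ∃ l, d.a (2 * l + 1) ∈ K := by
    rcases d.cases k with ⟨j, rfl⟩ | ⟨j, rfl⟩
    · obtain ⟨l, rfl | rfl⟩ := even_or_odd j
      · exact absurd (h2 l) hkM
      · exact ⟨l, hkK⟩
    · obtain ⟨l, hl | hl⟩ := even_or_odd (j - i)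
      · exact absurd (by simpa [← hl] using hb l) hkM
      · refine ⟨l, ?_⟩
        have h := K.mul_mem hkK (K.inv_mem (hK.le hg))
        rw [b_inv, b_mul_b] at h
        convert h using 2
        rw [← hl]
        linear_combination i * d.rexp_sq
  obtain ⟨l, hl⟩ := key
  rcases d.eq_cyc_of_mem hKt (fun k => hK.le (h2 k)) with h | h | h
  · obtain ⟨j, hj⟩ := d.mem_cyc.1 (h (hK.le hg))
    exact d.a_ne_b _ _ hj.symm
  · obtain ⟨j, hj | hj⟩ := d.mem_dih.1 (h hl)
    · exact two_mul_ne_odd d.one_le _ _ (d.a_injective hj).symm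
    · exact d.a_ne_b _ _ hj
  · obtain ⟨j, hj | hj⟩ := d.mem_quat.1 (h hl)
    · exact two_mul_ne_odd d.one_le _ _ (d.a_injective hj).symm
    · exact d.a_ne_b _ _ hj

lemma isCoatom_cyc : IsCoatom d.cyc := by
  refine ⟨fun h => ?_, fun K hK => ?_⟩
  · obtain ⟨j, hj⟩ := d.mem_cyc.1 (h ▸ Subgroup.mem_top (d.b 0))
    exact d.a_ne_b _ _ hj.symm
  · obtain ⟨k, hkK, hk⟩ := SetLike.exists_of_lt hK
    obtain ⟨i, rfl⟩ : ∃ i, k = d.b i :=
      (d.cases k).resolve_left (fun ⟨i, hi⟩ => hk (d.mem_cyc.2 ⟨i, hi⟩))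
    rw [eq_top_iff]
    intro g _
    rcases d.cases g with ⟨j, rfl⟩ | ⟨j, rfl⟩
    · exact hK.le (d.mem_cyc.2 ⟨j, rfl⟩)
    · have := K.mul_mem (hK.le (d.mem_cyc.2 ⟨j - i, rfl⟩)) hkK
      rw [a_mul_b, sub_add_cancel] at this
      exact this

lemma isCoatom_dih : IsCoatom d.dih := by
  refine d.isCoatom_of_even (i := 2 * 0) (fun h => ?_) (fun k => d.mem_dih.2 ⟨k, Or.inl rfl⟩)
    (d.mem_dih.2 ⟨0, Or.inr rfl⟩) rfl
  obtain ⟨k, hk | hk⟩ := d.mem_dih.1 (h ▸ Subgroup.mem_top (d.a (2 * 0 + 1)))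
  · exact two_mul_ne_odd d.one_le _ _ (d.a_injective hk).symm
  · exact d.a_ne_b _ _ hk

lemma isCoatom_quat : IsCoatom d.quat := by
  refine d.isCoatom_of_even (i := 2 * 0 + 1) (fun h => ?_) (fun k => d.mem_quat.2 ⟨k, Or.inl rfl⟩)
    (d.mem_quat.2 ⟨0, Or.inr rfl⟩) rfl
  obtain ⟨k, hk | hk⟩ := d.mem_quat.1 (h ▸ Subgroup.mem_top (d.a (2 * 0 + 1)))
  · exact two_mul_ne_odd d.one_le _ _ (d.a_injective hk).symm
  · exact d.a_ne_b _ _ hk

lemma even_mem_of_isCoatom {M : Subgroup S} (hM : IsCoatom M) (k : ZMod (2 ^ n)) :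
    d.a (2 * k) ∈ M := by
  haveI := d.finite
  haveI : Fact (Nat.Prime 2) := ⟨Nat.prime_two⟩
  haveI : Group.IsNilpotent S := (IsPGroup.of_card (p := 2) d.card).isNilpotent
  haveI hN : M.Normal := Subgroup.NormalizerCondition.normal_of_coatom _ Group.normalizerCondition_of_isNilpotent hM
  obtain ⟨hp, hidx⟩ : ∃ m, M.index = 2 ^ m ∧ 1 ≤ m := by
    obtain ⟨m, hm⟩ := (IsPGroup.of_card (p := 2) d.card).index M
    refine ⟨m, hm, Nat.one_le_iff_ne_zero.2 fun h => hM.1 ?_⟩
    rw [h, pow_zero] at hm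
    exact Subgroup.index_eq_one.1 hm
  have hq : IsPGroup 2 (S ⧸ M) := (IsPGroup.of_card (p := 2) d.card).to_quotient M
  -- the image of `a k` generates a subgroup whose preimage is `M` or everything
  by_contra hc
  have h1 : M ⊔ Subgroup.zpowers (d.a (2 * k)) = ⊤ :=
    hM.2 _ (lt_of_le_of_ne le_sup_left (fun e => hc (e ▸ Subgroup.mem_sup_right (Subgroup.mem_zpowers _))))
  have h2 : d.a k ∈ M ⊔ Subgroup.zpowers (d.a (2 * k)) := h1 ▸ Subgroup.mem_top _
  rw [← SetLike.mem_coe, Subgroup.normal_mul] at h2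
  obtain ⟨m, hm, z, hz, hmz⟩ := h2
  obtain ⟨j, rfl⟩ := Subgroup.mem_zpowers_iff.1 hz
  have hj : d.a (2 * k) ^ j = d.a ((j : ZMod (2 ^ n)) * (2 * k)) := by
    obtain ⟨j, rfl | rfl⟩ := Int.eq_nat_or_neg j
    · rw [zpow_natCast, a_pow]; simp
    · rw [zpow_neg, zpow_natCast, a_pow, ← a_neg]; simp
  have hm' : m = d.a (k * (2 * (-(j : ZMod (2 ^ n))) + 1)) := by
    rw [eq_mul_inv_of_mul_eq hmz, hj, a_inv, a_mul_a]; congr 1; ring
  obtain ⟨u, hu⟩ := isUnit_odd (-(j : ZMod (2 ^ n)))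
  apply hc
  have := M.pow_mem hm ((2 * ((u⁻¹ : (ZMod (2 ^ n))ˣ) : ZMod (2 ^ n))).val)
  rw [hm', a_pow, ZMod.natCast_zmod_val, ← hu] at this
  convert this using 2
  linear_combination -(2 * k) * u.inv_mul

lemma normal_even : d.even.Normal := ⟨fun g hg c => by
  obtain ⟨k, rfl⟩ := d.mem_even.1 hg
  rcases d.cases c with ⟨j, rfl⟩ | ⟨j, rfl⟩
  · rw [conj_a_a]; exact hg
  · rw [conj_b_a, rexp_mul_two]; exact d.mem_even.2 ⟨-k, by congr 1; ring⟩⟩

lemma commutator_eq : commutator S = d.even := by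
  apply le_antisymm
  · rw [commutator_def, Subgroup.commutator_le]
    intro g _ h _
    rw [mem_even, commutatorElement_def]
    rcases d.cases g with ⟨i, rfl⟩ | ⟨i, rfl⟩ <;> rcases d.cases h with ⟨j, rfl⟩ | ⟨j, rfl⟩
    · exact ⟨0, by simp [a_inv, a_mul_a]⟩
    · refine ⟨(1 - tp n (n - 2)) * i, ?_⟩
      rw [conj_a_b, b_inv, b_mul_b]; congr 1
      linear_combination -j * d.rexp_sq
    · refine ⟨-((1 - tp n (n - 2)) * j), ?_⟩
      rw [conj_b_a, a_inv, a_mul_a]; congr 1
      have := d.half_eq_two_mul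
      unfold rexp
      linear_combination j * this
    · refine ⟨(1 - tp n (n - 2)) * (i - j), ?_⟩
      rw [b_mul_b, b_inv, a_mul_b, b_inv, b_mul_b]; congr 1
      have := d.half_eq_two_mul
      have e := d.rexp_sq
      unfold rexp at *
      linear_combination (j - i) * this - j * e
  · intro g hg
    obtain ⟨k, rfl⟩ := d.mem_even.1 hg
    obtain ⟨j, hj⟩ := d.exists_conj_b 0 k
    have : d.a (2 * k) = ⁅d.a j, d.b 0⁆ := by
      rw [commutatorElement_def, hj, b_inv, b_mul_b, mul_zero, neg_zero, mul_zero, zero_add,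
        add_zero]
    rw [this, commutator_def]
    exact Subgroup.commutator_mem_commutator (Subgroup.mem_top _) (Subgroup.mem_top _)

lemma frattini_eq : frattini S = d.even := by
  apply le_antisymm
  · intro g hg
    have h1 := frattini_le_coatom d.isCoatom_cyc hg
    have h2 := frattini_le_coatom d.isCoatom_dih hg
    obtain ⟨i, rfl⟩ := d.mem_cyc.1 h1
    obtain ⟨k, hk | hk⟩ := d.mem_dih.1 h2
    · exact d.mem_even.2 ⟨k, hk⟩
    · exact absurd hk (d.a_ne_b _ _)
  · refine le_iInf₂ fun M hM g hg => ?_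
    obtain ⟨k, rfl⟩ := d.mem_even.1 hg
    exact d.even_mem_of_isCoatom hM k

lemma mem_center {g : S} : g ∈ Subgroup.center S ↔ g = 1 ∨ g = d.a (tp n (n - 1)) := by
  constructor
  · intro hg
    rw [Subgroup.mem_center_iff] at hg
    rcases d.cases g with ⟨i, rfl⟩ | ⟨i, rfl⟩
    · have h := hg (d.b 0)
      rw [b_mul_a, a_mul_b] at h
      have h' := d.b_injective h
      have h2 : (2 * i) * (tp n (n - 2) - 1) = 0 := by
        have := d.half_eq_two_mul
        unfold rexp at h'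
        linear_combination h' - i * this
      have hu : IsUnit (tp n (n - 2) - 1) := by simpa using d.isUnit_moveFactor.neg
      rcases (two_mul_eq_zero d.one_le).1 (hu.mul_left_eq_zero.1 h2) with rfl | rfl
      · exact Or.inl d.a_zero
      · exact Or.inr rfl
    · have h := hg (d.a 1)
      rw [a_mul_b, b_mul_a] at h
      have h' := d.b_injective h
      exact absurd (by linear_combination -h' : d.rexp = 1) d.rexp_ne_one
  · rw [Subgroup.mem_center_iff]
    rintro (rfl | rfl) c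
    · simp
    · rcases d.cases c with ⟨j, rfl⟩ | ⟨j, rfl⟩
      · rw [a_mul_a, a_mul_a, add_comm]
      · rw [b_mul_a, a_mul_b]; congr 1
        unfold rexp
        linear_combination d.half_sq - half_mul_two d.one_le

lemma card_center (d : QDData S n) : Nat.card (Subgroup.center S) = 2 := by
  rw [← SetLike.coe_sort_coe, Nat.card_coe_set_eq, Set.ncard_eq_two]
  exact ⟨1, d.a (tp n (n - 1)), d.a_half_ne_one.symm, Set.ext fun _ => d.mem_center⟩

lemma closure_involutions : Subgroup.closure {g : S | orderOf g = 2} = d.dih := by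
  apply le_antisymm
  · rw [Subgroup.closure_le]
    intro g hg
    rcases d.orderOf_eq_two_cases hg with rfl | ⟨k, rfl⟩
    · exact d.mem_dih.2 ⟨tp n (n - 2), Or.inl (by rw [← half_eq_two_mul d])⟩
    · exact d.mem_dih.2 ⟨k, Or.inr rfl⟩
  · intro g hg
    obtain ⟨k, rfl | rfl⟩ := d.mem_dih.1 hg
    · have e : d.a (2 * k) = d.b (2 * k) * d.b (2 * 0) := by
        rw [b_mul_b, mul_zero, mul_zero, add_zero]
      rw [e]
      exact mul_mem (Subgroup.subset_closure (d.orderOf_b_even k))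
        (Subgroup.subset_closure (d.orderOf_b_even 0))
    · exact Subgroup.subset_closure (d.orderOf_b_even k)

end Cfsg.Agent.QDWreath.QDData
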