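import Cfsg.Agent.Lib.QDWreath.Arith

/-!
Wreathed 2-groups `Z_{2^n} wr Z_2`: coordinates `a (i, j) = x^i y^j`, `b (i, j) = x^i y^j z`
over `ZMod (2 ^ n)`, multiplication table, involutions, centre, derived group, four subgroups.
-/

set_option autoImplicit false

open scoped commutatorElement

namespace Cfsg.Agent.QDWreath

/-- Generators of a wreathed group of order `2 ^ (2n + 1)`. -/
structure WrData (S : Type*) [Group S] (n : ℕ) where
  x : S
  y : S
  z : S
  hn : 2 ≤ n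
  card : Nat.card S = 2 ^ (2 * n + 1)
  order_x : orderOf x = 2 ^ n
  comm : x * y = y * x
  disj : Subgroup.zpowers x ⊓ Subgroup.zpowers y = ⊥
  order_z : orderOf z = 2
  rel : z * x * z⁻¹ = y

lemma nonempty_wrData {S : Type*} [Group S] (h : Cfsg.IsWreathed S) :
    ∃ n, Nonempty (WrData S n) := by
  obtain ⟨n, hn, hc, x, y, z, hx, hxy, hd, hz, hr⟩ := h
  exact ⟨n, ⟨⟨x, y, z, hn, hc, hx, hxy, hd, hz, hr⟩⟩⟩

/-- The same, with the order prescribed. -/
lemma wrData_of_card {S : Type*} [Group S] (h : Cfsg.IsWreathed S) {n : ℕ}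
    (hn : Nat.card S = 2 ^ (2 * n + 1)) : Nonempty (WrData S n) := by
  obtain ⟨m, ⟨d⟩⟩ := nonempty_wrData h
  have := Nat.pow_right_injective (le_refl 2) (d.card.symm.trans hn)
  obtain rfl : m = n := by omega
  exact ⟨d⟩

namespace WrData

variable {S : Type*} [Group S] {n : ℕ} (d : WrData S n)

/-- `x^i`. -/
def px (i : ZMod (2 ^ n)) : S := d.x ^ i.val

/-- `y^j`. -/
def py (j : ZMod (2 ^ n)) : S := d.y ^ j.val

/-- `x^i y^j`. -/
def a (i j : ZMod (2 ^ n)) : S := d.px i * d.py j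

/-- `x^i y^j z`. -/
def b (i j : ZMod (2 ^ n)) : S := d.a i j * d.z

lemma order_y : orderOf d.y = 2 ^ n := by
  rw [← d.rel, ← d.order_x]
  exact orderOf_injective (MulAut.conj d.z).toMonoidHom (MulEquiv.injective _) _

lemma z_mul_z : d.z * d.z = 1 := by rw [← pow_two, ← d.order_z, pow_orderOf_eq_one]

lemma conj_y : d.z * d.y * d.z⁻¹ = d.x := by
  have hz : d.z⁻¹ = d.z := inv_eq_of_mul_eq_one_left d.z_mul_z
  rw [← d.rel, hz]
  calc d.z * (d.z * d.x * d.z) * d.z = (d.z * d.z) * d.x * (d.z * d.z) := by group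
    _ = d.x := by rw [d.z_mul_z, one_mul, mul_one]

lemma px_natCast (k : ℕ) : d.px (k : ZMod (2 ^ n)) = d.x ^ k := by
  simp only [px, ZMod.val_natCast]; rw [← d.order_x, pow_mod_orderOf]

lemma py_natCast (k : ℕ) : d.py (k : ZMod (2 ^ n)) = d.y ^ k := by
  simp only [py, ZMod.val_natCast]; rw [← d.order_y, pow_mod_orderOf]

lemma px_add (i j : ZMod (2 ^ n)) : d.px (i + j) = d.px i * d.px j := by
  obtain ⟨i, rfl⟩ := ZMod.natCast_zmod_surjective i
  obtain ⟨j, rfl⟩ := ZMod.natCast_zmod_surjective j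
  rw [← Nat.cast_add, px_natCast, px_natCast, px_natCast, pow_add]

lemma py_add (i j : ZMod (2 ^ n)) : d.py (i + j) = d.py i * d.py j := by
  obtain ⟨i, rfl⟩ := ZMod.natCast_zmod_surjective i
  obtain ⟨j, rfl⟩ := ZMod.natCast_zmod_surjective j
  rw [← Nat.cast_add, py_natCast, py_natCast, py_natCast, pow_add]

lemma commute_pp (i j : ZMod (2 ^ n)) : Commute (d.px i) (d.py j) :=
  Commute.pow_pow d.comm _ _

@[simp] lemma a_zero : d.a 0 0 = 1 := by simp [a, px, py]

lemma a_mul_a (i j k l : ZMod (2 ^ n)) : d.a i j * d.a k l = d.a (i + k) (j + l) := by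
  rw [a, a, a, px_add, py_add, mul_assoc, ← mul_assoc (d.py j), ← (d.commute_pp k j).eq]
  group

lemma z_mul_a (i j : ZMod (2 ^ n)) : d.z * d.a i j = d.a j i * d.z := by
  obtain ⟨i, rfl⟩ := ZMod.natCast_zmod_surjective i
  obtain ⟨j, rfl⟩ := ZMod.natCast_zmod_surjective j
  rw [a, a, px_natCast, py_natCast, px_natCast, py_natCast]
  calc d.z * (d.x ^ i * d.y ^ j) = d.z * d.x ^ i * d.z⁻¹ * (d.z * d.y ^ j * d.z⁻¹) * d.z := by group
    _ = d.y ^ i * d.x ^ j * d.z := by rw [← conj_pow, ← conj_pow, d.rel, d.conj_y]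
    _ = d.x ^ j * d.y ^ i * d.z := by rw [(Commute.pow_pow d.comm j i).eq]

lemma a_mul_b (i j k l : ZMod (2 ^ n)) : d.a i j * d.b k l = d.b (i + k) (j + l) := by
  rw [b, b, ← mul_assoc, a_mul_a]

lemma b_mul_a (i j k l : ZMod (2 ^ n)) : d.b i j * d.a k l = d.b (i + l) (j + k) := by
  rw [b, b, mul_assoc, z_mul_a, ← mul_assoc, a_mul_a]

lemma b_mul_b (i j k l : ZMod (2 ^ n)) : d.b i j * d.b k l = d.a (i + l) (j + k) := by
  rw [show d.b k l = d.a k l * d.z from rfl, ← mul_assoc, b_mul_a, b, mul_assoc, z_mul_z, mul_one]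

lemma a_inv (i j : ZMod (2 ^ n)) : (d.a i j)⁻¹ = d.a (-i) (-j) := by
  rw [inv_eq_iff_mul_eq_one, a_mul_a, add_neg_cancel, add_neg_cancel, a_zero]

lemma b_inv (i j : ZMod (2 ^ n)) : (d.b i j)⁻¹ = d.b (-j) (-i) := by
  rw [inv_eq_iff_mul_eq_one, b_mul_b, add_neg_cancel, add_neg_cancel, a_zero]

lemma a_inj {i j k l : ZMod (2 ^ n)} : d.a i j = d.a k l ↔ i = k ∧ j = l := by
  constructor
  · intro h
    have h1 : d.a (i - k) (j - l) = 1 := by
      rw [sub_eq_add_neg, sub_eq_add_neg, ← a_mul_a, h, a_mul_a, add_neg_cancel, add_neg_cancel,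
        a_zero]
    have hx : d.px (i - k) ∈ (⊥ : Subgroup S) := by
      rw [← d.disj]
      refine ⟨pow_mem (Subgroup.mem_zpowers _) _, ?_⟩
      rw [SetLike.mem_coe, eq_inv_of_mul_eq_one_left h1]
      exact Subgroup.inv_mem _ (Subgroup.pow_mem _ (Subgroup.mem_zpowers _) _)
    rw [Subgroup.mem_bot] at hx
    have hy : d.py (j - l) = 1 := by rwa [a, hx, one_mul] at h1
    constructor
    · rw [px, ← orderOf_dvd_iff_pow_eq_one, d.order_x] at hx
      have := Nat.eq_zero_of_dvd_of_lt hx (i - k).val_lt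
      exact sub_eq_zero.1 ((ZMod.val_eq_zero _).1 this)
    · rw [py, ← orderOf_dvd_iff_pow_eq_one, d.order_y] at hy
      have := Nat.eq_zero_of_dvd_of_lt hy (j - l).val_lt
      exact sub_eq_zero.1 ((ZMod.val_eq_zero _).1 this)
  · rintro ⟨rfl, rfl⟩; rfl

lemma one_le (d : WrData S n) : 1 ≤ n := le_trans (by norm_num) d.hn

lemma nontrivial (d : WrData S n) : (1 : ZMod (2 ^ n)) ≠ 0 := by
  rw [← tp_zero]; exact tp_ne_zero n 0 d.one_le

lemma a_ne_b (i j k l : ZMod (2 ^ n)) : d.a i j ≠ d.b k l := by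
  intro h
  have hz : d.z = d.a (-k + i) (-l + j) := by
    rw [← a_mul_a, h, a_mul_b, neg_add_cancel, neg_add_cancel, b, a_zero, one_mul]
  have h2 := d.z_mul_a 1 0
  rw [hz, a_mul_a, a_mul_a, a_inj] at h2
  exact d.nontrivial (by linear_combination h2.1)

lemma b_inj {i j k l : ZMod (2 ^ n)} : d.b i j = d.b k l ↔ i = k ∧ j = l := by
  rw [b, b, mul_left_inj, a_inj]

lemma finite (d : WrData S n) : Finite S := Nat.finite_of_card_ne_zero (by rw [d.card]; simp)

lemma cases (d : WrData S n) (g : S) : (∃ i j, g = d.a i j) ∨ (∃ i j, g = d.b i j) := by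
  haveI := d.finite
  let f : (ZMod (2 ^ n) × ZMod (2 ^ n)) ⊕ (ZMod (2 ^ n) × ZMod (2 ^ n)) → S :=
    Sum.elim (fun p => d.a p.1 p.2) (fun p => d.b p.1 p.2)
  have hf : Function.Injective f :=
    Function.Injective.sumElim (fun p q h => Prod.ext (d.a_inj.1 h).1 (d.a_inj.1 h).2)
      (fun p q h => Prod.ext (d.b_inj.1 h).1 (d.b_inj.1 h).2) (fun p q => d.a_ne_b _ _ _ _)
  have hs : Function.Surjective f := by
    apply (Nat.bijective_iff_injective_and_card f).2 ⟨hf, _⟩ |>.2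
    rw [Nat.card_sum, Nat.card_prod, Nat.card_zmod, d.card, pow_succ, two_mul, pow_add, mul_two]
  obtain ⟨(i | i), hi⟩ := hs g
  · exact Or.inl ⟨i.1, i.2, hi.symm⟩
  · exact Or.inr ⟨i.1, i.2, hi.symm⟩

lemma b_ne_one (i j : ZMod (2 ^ n)) : d.b i j ≠ 1 := fun h =>
  d.a_ne_b 0 0 i j (d.a_zero.trans h.symm)

lemma sq_eq_one {g : S} : g * g = 1 ↔
    (∃ i j, g = d.a i j ∧ (i = 0 ∨ i = tp n (n - 1)) ∧ (j = 0 ∨ j = tp n (n - 1))) ∨
      ∃ i, g = d.b i (-i) := by
  constructor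
  · intro h
    rcases d.cases g with ⟨i, j, rfl⟩ | ⟨i, j, rfl⟩
    · rw [a_mul_a, ← d.a_zero, a_inj, ← two_mul, ← two_mul] at h
      exact Or.inl ⟨i, j, rfl, (two_mul_eq_zero d.one_le).1 h.1, (two_mul_eq_zero d.one_le).1 h.2⟩
    · rw [b_mul_b, ← d.a_zero, a_inj] at h
      exact Or.inr ⟨i, by rw [eq_neg_of_add_eq_zero_right h.1]⟩
  · rintro (⟨i, j, rfl, hi, hj⟩ | ⟨i, rfl⟩)
    · rw [a_mul_a, ← two_mul, ← two_mul, (two_mul_eq_zero d.one_le).2 hi,
        (two_mul_eq_zero d.one_le).2 hj, a_zero]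
    · rw [b_mul_b, add_neg_cancel, neg_add_cancel, a_zero]

lemma conj_a_a (k l i j : ZMod (2 ^ n)) : d.a k l * d.a i j * (d.a k l)⁻¹ = d.a i j := by
  rw [a_inv, a_mul_a, a_mul_a, a_inj]; exact ⟨by ring, by ring⟩

lemma conj_b_a (k l i j : ZMod (2 ^ n)) : d.b k l * d.a i j * (d.b k l)⁻¹ = d.a j i := by
  rw [b_inv, b_mul_a, b_mul_b, a_inj]; exact ⟨by ring, by ring⟩

lemma conj_a_b (k l i j : ZMod (2 ^ n)) :
    d.a k l * d.b i j * (d.a k l)⁻¹ = d.b (i + (k - l)) (j - (k - l)) := by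
  rw [a_inv, a_mul_b, b_mul_a, b_inj]; exact ⟨by ring, by ring⟩

lemma orderOf_eq_two {g : S} : orderOf g = 2 ↔ g * g = 1 ∧ g ≠ 1 := by
  constructor
  · intro h
    refine ⟨by rw [← pow_two, ← h, pow_orderOf_eq_one], fun e => ?_⟩
    rw [e, orderOf_one] at h; exact absurd h (by norm_num)
  · rintro ⟨h1, h2⟩; exact orderOf_eq_prime (by rw [pow_two]; exact h1) h2

/-- The homocyclic subgroup `⟨x, y⟩`. -/
def baseHom : Multiplicative (ZMod (2 ^ n) × ZMod (2 ^ n)) →* S where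
  toFun p := d.a p.toAdd.1 p.toAdd.2
  map_one' := by simp
  map_mul' p q := by simp [a_mul_a]

/-- `⟨x, y⟩`. -/
def base : Subgroup S := d.baseHom.range

lemma mem_base {g : S} : g ∈ d.base ↔ ∃ i j, g = d.a i j :=
  ⟨fun ⟨p, hp⟩ => ⟨_, _, hp.symm⟩,
    fun ⟨i, j, h⟩ => ⟨Multiplicative.ofAdd (i, j), h.symm⟩⟩

lemma baseHom_injective : Function.Injective d.baseHom := fun _ _ h =>
  Multiplicative.toAdd.injective (Prod.ext (d.a_inj.1 h).1 (d.a_inj.1 h).2)

lemma card_base : Nat.card d.base = 2 ^ (2 * n) := by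
  rw [show d.base = d.baseHom.range from rfl,
    ← Nat.card_congr (MonoidHom.ofInjective d.baseHom_injective).toEquiv,
    Nat.card_congr Multiplicative.toAdd, Nat.card_prod, Nat.card_zmod, two_mul, pow_add]

lemma eq_base_of_comm {U : Subgroup S} (hU : IsMulCommutative U)
    (hc : Nat.card U = 2 ^ (2 * n)) : U = d.base := by
  haveI := d.finite
  refine Subgroup.eq_of_le_of_card_ge ?_ (by rw [hc, d.card_base])
  intro g hg
  rcases d.cases g with ⟨i, j, rfl⟩ | ⟨i, j, rfl⟩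
  · exact d.mem_base.2 ⟨i, j, rfl⟩
  · exfalso
    -- everything in `U` lies in a set of size `2 * 2 ^ n`
    have hsub : (U : Set S) ⊆ (fun p : ZMod (2 ^ n) × Bool =>
        if p.2 then d.a p.1 p.1 else d.b (i + p.1) (j + p.1)) '' Set.univ := by
      intro h hh
      have hcomm : d.b i j * h = h * d.b i j :=
        congrArg Subtype.val (hU.is_comm.comm (⟨_, hg⟩ : U) ⟨h, hh⟩)
      rcases d.cases h with ⟨k, l, rfl⟩ | ⟨k, l, rfl⟩
      · rw [b_mul_a, a_mul_b, b_inj] at hcomm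
        obtain rfl : l = k := by linear_combination hcomm.1
        exact ⟨(l, true), trivial, by simp⟩
      · rw [b_mul_b, b_mul_b, a_inj] at hcomm
        refine ⟨(k - i, false), trivial, ?_⟩
        simp only [Bool.false_eq_true, if_false]
        rw [b_inj]
        exact ⟨by ring, by linear_combination hcomm.2⟩
    have := (Set.ncard_le_ncard hsub).trans (Set.ncard_image_le Set.finite_univ)
    rw [← Nat.card_coe_set_eq, SetLike.coe_sort_coe, hc, Set.ncard_univ, Nat.card_prod,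
      Nat.card_zmod, Nat.card_eq_fintype_card (α := Bool), Fintype.card_bool, ← pow_succ] at this
    have h2 := Nat.pow_le_pow_iff_right (le_refl 2) |>.1 this
    have := d.hn
    omega

lemma mem_center {g : S} : g ∈ Subgroup.center S ↔ ∃ i, g = d.a i i := by
  rw [Subgroup.mem_center_iff]
  constructor
  · intro h
    rcases d.cases g with ⟨i, j, rfl⟩ | ⟨i, j, rfl⟩
    · have h1 := h (d.b 0 0)
      rw [b_mul_a, a_mul_b, b_inj] at h1
      exact ⟨i, by rw [show j = i by linear_combination h1.1]⟩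
    · have h1 := h (d.a 1 0)
      rw [b_mul_a, a_mul_b, b_inj] at h1
      exact absurd (by linear_combination h1.1) d.nontrivial
  · rintro ⟨i, rfl⟩ c
    rcases d.cases c with ⟨k, l, rfl⟩ | ⟨k, l, rfl⟩
    · rw [a_mul_a, a_mul_a, add_comm k, add_comm l]
    · rw [b_mul_a, a_mul_b, add_comm k, add_comm l]

/-- The diagonal. -/
def diagHom : Multiplicative (ZMod (2 ^ n)) →* S where
  toFun i := d.a i.toAdd i.toAdd
  map_one' := by simp
  map_mul' i j := by simp [a_mul_a]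

/-- The antidiagonal. -/
def antiHom : Multiplicative (ZMod (2 ^ n)) →* S where
  toFun i := d.a i.toAdd (-i.toAdd)
  map_one' := by simp
  map_mul' i j := by simp [a_mul_a, add_comm]

lemma center_eq : Subgroup.center S = d.diagHom.range := by
  ext g
  rw [mem_center]
  exact ⟨fun ⟨i, h⟩ => ⟨Multiplicative.ofAdd i, h.symm⟩, fun ⟨i, h⟩ => ⟨_, h.symm⟩⟩

lemma diagHom_injective : Function.Injective d.diagHom := fun _ _ h =>
  Multiplicative.toAdd.injective (d.a_inj.1 h).1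

lemma antiHom_injective : Function.Injective d.antiHom := fun _ _ h =>
  Multiplicative.toAdd.injective (d.a_inj.1 h).1

lemma commutator_eq : commutator S = d.antiHom.range := by
  have mk : ∀ i, d.a i (-i) ∈ d.antiHom.range := fun i => ⟨Multiplicative.ofAdd i, rfl⟩
  apply le_antisymm
  · rw [commutator_def, Subgroup.commutator_le]
    intro g _ h _
    rw [commutatorElement_def]
    rcases d.cases g with ⟨i, j, rfl⟩ | ⟨i, j, rfl⟩ <;>
      rcases d.cases h with ⟨k, l, rfl⟩ | ⟨k, l, rfl⟩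
    · rw [conj_a_a, a_inv, a_mul_a]
      convert mk 0 using 2 <;> ring
    · rw [conj_a_b, b_inv, b_mul_b]
      convert mk (i - j) using 2 <;> ring
    · rw [conj_b_a, a_inv, a_mul_a]
      convert mk (l - k) using 2 <;> ring
    · rw [b_mul_b, b_inv, a_mul_b, b_inv, b_mul_b]
      convert mk (i + l - (j + k)) using 2 <;> ring
  · rintro _ ⟨i, rfl⟩
    have : d.antiHom i = ⁅d.a i.toAdd 0, d.b 0 0⁆ := by
      rw [commutatorElement_def, conj_a_b, b_inv, b_mul_b]
      show d.a _ _ = _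
      rw [a_inj]
      exact ⟨by ring, by ring⟩
    rw [this, commutator_def]
    exact Subgroup.commutator_mem_commutator (Subgroup.mem_top _) (Subgroup.mem_top _)

open Classical in
/-- The map onto the dihedral quotient `S / Z(S)`. -/
noncomputable def toDihedral : S →* DihedralGroup (2 ^ n) :=
  MonoidHom.mk'
    (fun g => if h : ∃ i j, g = d.a i j then .r (h.choose - h.choose_spec.choose)
      else if h' : ∃ i j, g = d.b i j then .sr (h'.choose_spec.choose - h'.choose) else 1)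
    (by
      intro g h
      have ea : ∀ i j (H : ∃ i' j', d.a i j = d.a i' j'),
          H.choose - H.choose_spec.choose = i - j := by
        intro i j H
        obtain ⟨e1, e2⟩ := d.a_inj.1 H.choose_spec.choose_spec
        rw [← e2, ← e1]
      have eb : ∀ i j (H : ∃ i' j', d.b i j = d.b i' j'),
          H.choose_spec.choose - H.choose = j - i := by
        intro i j H
        obtain ⟨e1, e2⟩ := d.b_inj.1 H.choose_spec.choose_spec
        rw [← e2, ← e1]
      have hab : ∀ i j, ¬ ∃ i' j', d.b i j = d.a i' j' := fun i j ⟨i', j', e⟩ =>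
        d.a_ne_b i' j' i j e.symm
      rcases d.cases g with ⟨i, j, rfl⟩ | ⟨i, j, rfl⟩ <;>
        rcases d.cases h with ⟨k, l, rfl⟩ | ⟨k, l, rfl⟩ <;>
        simp only [a_mul_a, a_mul_b, b_mul_a, b_mul_b, hab, exists_apply_eq_apply2', dif_pos,
          dif_neg, not_false_eq_true, ea, eb, DihedralGroup.r_mul_r, DihedralGroup.r_mul_sr,
          DihedralGroup.sr_mul_r, DihedralGroup.sr_mul_sr] <;>
        congr 1 <;> ring)

open Classical in
lemma toDihedral_a (i j : ZMod (2 ^ n)) : d.toDihedral (d.a i j) = .r (i - j) := by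
  have H : ∃ i' j', d.a i j = d.a i' j' := ⟨i, j, rfl⟩
  show dite _ _ _ = _
  rw [dif_pos H]
  obtain ⟨e1, e2⟩ := d.a_inj.1 H.choose_spec.choose_spec
  congr 1
  rw [← e2, ← e1]

open Classical in
lemma toDihedral_b (i j : ZMod (2 ^ n)) : d.toDihedral (d.b i j) = .sr (j - i) := by
  have H : ∃ i' j', d.b i j = d.b i' j' := ⟨i, j, rfl⟩
  show dite _ _ _ = _
  rw [dif_neg (fun ⟨i', j', e⟩ => d.a_ne_b i' j' i j e.symm), dif_pos H]
  obtain ⟨e1, e2⟩ := d.b_inj.1 H.choose_spec.choose_spec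
  congr 1
  rw [← e2, ← e1]

lemma toDihedral_surjective : Function.Surjective d.toDihedral := by
  rintro (i | i)
  · exact ⟨d.a i 0, by rw [toDihedral_a, sub_zero]⟩
  · exact ⟨d.b 0 i, by rw [toDihedral_b, sub_zero]⟩

lemma ker_toDihedral : d.toDihedral.ker = Subgroup.center S := by
  ext g
  rw [MonoidHom.mem_ker, mem_center, DihedralGroup.one_def]
  constructor
  · intro h
    rcases d.cases g with ⟨i, j, rfl⟩ | ⟨i, j, rfl⟩
    · rw [toDihedral_a, DihedralGroup.r.injEq, sub_eq_zero] at h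
      exact ⟨i, by rw [h]⟩
    · rw [toDihedral_b] at h; cases h
  · rintro ⟨i, rfl⟩
    rw [toDihedral_a, sub_self]

/-- The normal four subgroup `Ω₁ ⟨x, y⟩`. -/
def omega : Subgroup S where
  carrier := {g | ∃ i j, g = d.a i j ∧ 2 * i = 0 ∧ 2 * j = 0}
  one_mem' := ⟨0, 0, d.a_zero.symm, mul_zero _, mul_zero _⟩
  mul_mem' := by
    rintro _ _ ⟨i, j, rfl, hi, hj⟩ ⟨k, l, rfl, hk, hl⟩
    exact ⟨i + k, j + l, d.a_mul_a _ _ _ _, by rw [mul_add, hi, hk, add_zero],
      by rw [mul_add, hj, hl, add_zero]⟩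
  inv_mem' := by
    rintro _ ⟨i, j, rfl, hi, hj⟩
    exact ⟨-i, -j, d.a_inv _ _, by rw [mul_neg, hi, neg_zero], by rw [mul_neg, hj, neg_zero]⟩

lemma mem_omega {g : S} : g ∈ d.omega ↔ ∃ i j, g = d.a i j ∧ 2 * i = 0 ∧ 2 * j = 0 := Iff.rfl

lemma normal_omega : d.omega.Normal := by
  refine ⟨fun g hg c => ?_⟩
  obtain ⟨i, j, rfl, hi, hj⟩ := d.mem_omega.1 hg
  rcases d.cases c with ⟨k, l, rfl⟩ | ⟨k, l, rfl⟩
  · rw [conj_a_a]; exact hg
  · rw [conj_b_a]; exact d.mem_omega.2 ⟨j, i, rfl, hj, hi⟩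

lemma isKleinFour_omega : IsKleinFour d.omega := by
  haveI := d.finite
  have h0 := tp_ne_zero n (n - 1) (by have := d.hn; omega)
  have hc : Nat.card d.omega = 4 := by
    rw [← SetLike.coe_sort_coe, Nat.card_coe_set_eq]
    have : (d.omega : Set S) = (fun p : ZMod (2 ^ n) × ZMod (2 ^ n) => d.a p.1 p.2) ''
        (({0, tp n (n - 1)} : Set (ZMod (2 ^ n))) ×ˢ ({0, tp n (n - 1)} : Set (ZMod (2 ^ n)))) := by
      ext g
      simp only [SetLike.mem_coe, mem_omega, Set.mem_image, Set.mem_prod, Set.mem_insert_iff,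
        Set.mem_singleton_iff, two_mul_eq_zero d.one_le, Prod.exists]
      exact ⟨fun ⟨i, j, h, hi, hj⟩ => ⟨i, j, ⟨hi, hj⟩, h.symm⟩,
        fun ⟨i, j, ⟨hi, hj⟩, h⟩ => ⟨i, j, h.symm, hi, hj⟩⟩
    rw [this, Set.ncard_image_of_injective _
      (fun p q h => Prod.ext (d.a_inj.1 h).1 (d.a_inj.1 h).2), Set.ncard_prod,
      Set.ncard_pair h0.symm]
  refine ⟨hc, ?_⟩
  have hdvd : Monoid.exponent d.omega ∣ 2 := Monoid.exponent_dvd_of_forall_pow_eq_one (fun g => by
    obtain ⟨i, j, h, hi, hj⟩ := d.mem_omega.1 g.2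
    ext
    rw [Subgroup.coe_pow, pow_two, h, a_mul_a, ← two_mul, ← two_mul, hi, hj, a_zero,
      Subgroup.coe_one])
  rcases (Nat.dvd_prime Nat.prime_two).1 hdvd with h | h
  · haveI := Monoid.exp_eq_one_iff.1 h
    rw [Nat.card_unique] at hc
    omega
  · exact h

/-- Elements of a four subgroup other than `omega`. -/
lemma klein_shape {T : Subgroup S} (hT : IsKleinFour T) (hne : T ≠ d.omega) :
    ∃ i, ∀ g : S, g ∈ T ↔ ∃ e, 2 * e = 0 ∧ (g = d.a e e ∨ g = d.b (i + e) (-(i + e))) := by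
  haveI := d.finite
  have hsq : ∀ g ∈ T, g * g = 1 := fun g hg => by
    simpa using congrArg Subtype.val
      (show (⟨g, hg⟩ : T) * ⟨g, hg⟩ = 1 from Monoid.pow_exponent_eq_one (⟨g, hg⟩ : T) |> fun h => by
        rw [hT.exponent_two, pow_two] at h; exact h)
  have hne' : ¬ T ≤ d.omega := fun h => hne (Subgroup.eq_of_le_of_card_ge h (by
    rw [hT.card_four, d.isKleinFour_omega.card_four]))
  obtain ⟨g, hg, hg'⟩ := SetLike.not_le_iff_exists.1 hne'
  obtain ⟨i, rfl⟩ : ∃ i, g = d.b i (-i) := by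
    rcases d.sq_eq_one.1 (hsq g hg) with ⟨i, j, rfl, hi, hj⟩ | h
    · exact absurd (d.mem_omega.2 ⟨i, j, rfl, (two_mul_eq_zero d.one_le).2 hi,
        (two_mul_eq_zero d.one_le).2 hj⟩) hg'
    · exact h
  refine ⟨i, ?_⟩
  have hsub : (T : Set S) ⊆
      {g | ∃ e, 2 * e = 0 ∧ (g = d.a e e ∨ g = d.b (i + e) (-(i + e)))} := by
    intro h hh
    have hcomm : d.b i (-i) * h = h * d.b i (-i) := congrArg Subtype.val
      (mul_comm_of_exponent_two hT.exponent_two (⟨_, hg⟩ : T) ⟨h, hh⟩)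
    rcases d.sq_eq_one.1 (hsq h hh) with ⟨k, l, rfl, hk, hl⟩ | ⟨k, rfl⟩
    · rw [b_mul_a, a_mul_b, b_inj] at hcomm
      obtain rfl : l = k := by linear_combination hcomm.1
      exact ⟨l, (two_mul_eq_zero d.one_le).2 hk, Or.inl rfl⟩
    · rw [b_mul_b, b_mul_b, a_inj] at hcomm
      exact ⟨k - i, by linear_combination -hcomm.1, Or.inr (by rw [add_sub_cancel])⟩
  have hset : {g | ∃ e, 2 * e = 0 ∧ (g = d.a e e ∨ g = d.b (i + e) (-(i + e)))} ⊆
      ({d.a 0 0, d.a (tp n (n - 1)) (tp n (n - 1)), d.b (i + 0) (-(i + 0)),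
        d.b (i + tp n (n - 1)) (-(i + tp n (n - 1)))} : Set S) := by
    rintro g ⟨e, he, hge⟩
    rcases (two_mul_eq_zero d.one_le).1 he with rfl | rfl <;> rcases hge with rfl | rfl <;> simp
  have heq : (T : Set S) = _ := Set.eq_of_subset_of_ncard_le hsub (by
    refine (Set.ncard_le_ncard hset).trans ?_
    rw [← Nat.card_coe_set_eq (T : Set S), SetLike.coe_sort_coe, hT.card_four]
    refine (Set.ncard_insert_le _ _).trans (Nat.add_le_add_right ?_ 1)
    refine (Set.ncard_insert_le _ _).trans (Nat.add_le_add_right ?_ 1)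
    refine (Set.ncard_insert_le _ _).trans (Nat.add_le_add_right ?_ 1)
    exact (Set.ncard_singleton _).le)
  intro g
  exact Set.ext_iff.1 heq g

end WrData

end Cfsg.Agent.QDWreath
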