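import Cfsg.Agent.Lib.QDWreath.SemidihedralSmall
import Cfsg.Agent.Lib.QDWreath.Wreathed
import Cfsg.Agent.Lib.PGroup.Basic

/-!
Local indices `|N_G(T) : C_G(T)|`, `|N_G(Q) : Q C_G(Q)|` in groups with quasi-dihedral or wreathed
Sylow 2-subgroups are 2 or 6.
-/

set_option autoImplicit false

open Subgroup

namespace Cfsg.Agent.QDWreath

variable {G : Type*} [Group G]

lemma card_mulAut_dvd_six {W : Type*} [Group W] (hW : Nat.card W = 4) :
    Nat.card (MulAut W) ∣ 6 := by
  haveI : Finite W := Nat.finite_of_card_ne_zero (by omega)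
  have hc : Nat.card {w : W // w ≠ 1} = 3 := by
    classical
    letI := Fintype.ofFinite W
    rw [Nat.card_eq_fintype_card, Fintype.card_subtype_compl, Fintype.card_subtype_eq,
      ← Nat.card_eq_fintype_card, hW]
  let f : MulAut W →* Equiv.Perm {w : W // w ≠ 1} :=
    { toFun := fun φ => φ.toEquiv.subtypeEquiv (fun w => by
        simp)
      map_one' := by ext w; rfl
      map_mul' := fun φ ψ => by ext w; rfl }
  have hf : Function.Injective f := by
    intro φ ψ h
    ext w
    by_cases hw : w = 1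
    · simp [hw]
    · exact congrArg Subtype.val (Equiv.congr_fun h ⟨w, hw⟩)
  have h := Subgroup.card_dvd_of_injective f hf
  rwa [Nat.card_perm, hc] at h

/-- An element of odd order normalising an abelian 2-group and fixing its involutions centralises it. -/
lemma centralizes_of_fix [Finite G] {A : Subgroup G} (hA : ∀ a ∈ A, ∀ b ∈ A, a * b = b * a)
    (h2 : IsPGroup 2 A) {g : G} (hg : Odd (orderOf g)) (hn : ∀ a ∈ A, g * a * g⁻¹ ∈ A)
    (hfix : ∀ a ∈ A, a * a = 1 → g * a = a * g) : ∀ a ∈ A, g * a = a * g := by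
  have key : ∀ k, ∀ a ∈ A, a ^ 2 ^ k = 1 → g * a = a * g := by
    intro k
    induction k with
    | zero => intro a _ h; rw [pow_zero, pow_one] at h; subst h; simp
    | succ k ih =>
      intro a ha h
      have h1 : g * (a * a) = a * a * g := ih _ (mul_mem ha ha) (by
        rw [← pow_two, ← pow_mul, ← pow_succ']; exact h)
      have hd : a⁻¹ * (g * a * g⁻¹) ∈ A := mul_mem (inv_mem ha) (hn a ha)
      set b := a⁻¹ * (g * a * g⁻¹) with hb
      have hga : g * a * g⁻¹ = a * b := (mul_inv_cancel_left a _).symm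
      have hbb : b * b = 1 := by
        have e : g * a * g⁻¹ * (g * a * g⁻¹) = a * a := by
          calc g * a * g⁻¹ * (g * a * g⁻¹) = g * (a * a) * g⁻¹ := by group
            _ = a * a := by rw [h1, mul_inv_cancel_right]
        rw [hga, show a * b * (a * b) = a * (b * a) * b by group, hA b hd a ha] at e
        have e' : a * a * (b * b) = a * a := by rw [← mul_assoc, mul_assoc a a b]; exact e
        exact mul_eq_left.1 e'
      have hgb : g * b * g⁻¹ = b := by rw [hfix b hd hbb, mul_inv_cancel_right]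
      have h2' : g ^ 2 * a = a * g ^ 2 := by
        have e : g * (g * a * g⁻¹) * g⁻¹ = a := by
          calc g * (g * a * g⁻¹) * g⁻¹ = g * (a * b) * g⁻¹ := by rw [hga]
            _ = (g * a * g⁻¹) * (g * b * g⁻¹) := by group
            _ = a * (b * b) := by rw [hgb, hga, mul_assoc]
            _ = a := by rw [hbb, mul_one]
        calc g ^ 2 * a = g * (g * a * g⁻¹) * g⁻¹ * g ^ 2 := by rw [pow_two]; group
          _ = _ := by rw [e]
      obtain ⟨j, hj⟩ := hg
      have : g = (g ^ 2) ^ (j + 1) := by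
        rw [← pow_mul, show 2 * (j + 1) = orderOf g + 1 by omega, pow_succ, pow_orderOf_eq_one,
          one_mul]
      rw [this]
      exact (show Commute (g ^ 2) a from h2').pow_left _
  intro a ha
  obtain ⟨k, hk⟩ := h2 ⟨a, ha⟩
  exact key k a ha (by simpa using congrArg Subtype.val hk)

/-- The index of `H` in `N` is 2 or 6. -/
theorem relIndex_eq_two_or_six [Finite G] {W : Type*} [Group W] (hW : Nat.card W = 4)
    {Q H N : Subgroup G} (f : N →* MulAut W) (hHN : H ≤ N) (hnorm : N ≤ normalizer (H : Set G))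
    (hQH : Q ≤ H) (hQ2 : IsPGroup 2 Q)
    (hodd : ∀ g : N, f g = 1 → Odd (orderOf (g : G)) → (g : G) ∈ H)
    {g : G} (hgN : g ∈ N) (hgH : g ∉ H) (hg2 : ∃ k, g ^ 2 ^ k = 1)
    (hbd : ∀ P : Subgroup G, IsPGroup 2 P → Q ≤ P → P ≤ N → Nat.card P ≤ 2 * Nat.card Q) :
    H.relIndex N = 2 ∨ H.relIndex N = 6 := by
  classical
  haveI := Fact.mk Nat.prime_two
  haveI hH'n : (H.subgroupOf N).Normal := normal_subgroupOf_of_le_normalizer hnorm
  set H' := H.subgroupOf N with hH'
  change H'.index = 2 ∨ H'.index = 6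
  -- even
  have heven : 2 ∣ H'.index := by
    obtain ⟨k, hk⟩ := hg2
    have h1 : ((⟨g, hgN⟩ : N) : N ⧸ H') ≠ 1 := fun h => hgH (mem_subgroupOf.1
      ((QuotientGroup.eq_one_iff _).1 h))
    have h2 : ((⟨g, hgN⟩ : N) : N ⧸ H') ^ 2 ^ k = 1 := by
      rw [← QuotientGroup.mk_pow, show (⟨g, hgN⟩ : N) ^ 2 ^ k = 1 from Subtype.ext (by simpa using hk),
        QuotientGroup.mk_one]
    obtain ⟨i, -, hi⟩ := (Nat.dvd_prime_pow Nat.prime_two).1 (orderOf_dvd_of_pow_eq_one h2)
    have : 2 ∣ orderOf ((⟨g, hgN⟩ : N) : N ⧸ H') := by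
      rw [hi]
      refine dvd_pow_self 2 ?_
      rintro rfl
      exact h1 (orderOf_eq_one_iff.1 (by rw [hi, pow_zero]))
    exact this.trans (orderOf_dvd_natCard _)
  -- not divisible by 4
  have hQN : Q ≤ N := hQH.trans hHN
  have h4 : ¬ 4 ∣ H'.index := by
    intro h4
    obtain ⟨a, ha⟩ := IsPGroup.iff_card.1 hQ2
    have hQ' : IsPGroup 2 (Q.subgroupOf N) := hQ2.of_equiv (subgroupOfEquivOfLe hQN).symm
    obtain ⟨P, hP⟩ := hQ'.exists_le_sylow
    have hdN : 2 ^ (a + 2) ∣ Nat.card N := by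
      rw [← H'.card_mul_index, pow_add]
      refine mul_dvd_mul ?_ h4
      rw [← ha, Nat.card_congr (subgroupOfEquivOfLe hHN).toEquiv]
      exact card_dvd_of_le hQH
    have hdP := P.pow_dvd_card_of_pow_dvd_card hdN
    have hb := hbd ((P : Subgroup N).map N.subtype) (P.isPGroup'.map _)
      (by rw [← map_subgroupOf_eq_of_le hQN]; exact map_mono hP) (map_subtype_le _)
    rw [card_map_of_injective N.subtype_injective, ha] at hb
    have := (Nat.le_of_dvd Nat.card_pos hdP).trans hb
    rw [← pow_succ', Nat.pow_le_pow_iff_right (by norm_num)] at this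
    omega
  -- divides `6 * 2 ^ k`
  obtain ⟨k, hk⟩ : ∃ k, H'.index ∣ 6 * 2 ^ k := by
    have hp : IsPGroup 2 (f.ker ⧸ H'.subgroupOf f.ker) := by
      intro y
      induction y using QuotientGroup.induction_on with | H y => ?_
      obtain ⟨a, b, hb, he⟩ := Nat.exists_eq_two_pow_mul_odd (n := orderOf (y : N)) (orderOf_pos _).ne'
      refine ⟨a, ?_⟩
      rw [← QuotientGroup.mk_pow, QuotientGroup.eq_one_iff, mem_subgroupOf, SubmonoidClass.coe_pow,
        hH', mem_subgroupOf]
      refine hodd ((y : N) ^ 2 ^ a) (by rw [map_pow, MonoidHom.mem_ker.1 y.2, one_pow]) ?_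
      rw [Subgroup.orderOf_coe, orderOf_pow, he, Nat.gcd_eq_right (dvd_mul_right _ _),
        Nat.mul_div_cancel_left _ (Nat.two_pow_pos a)]
      exact hb
    obtain ⟨k, hk⟩ := IsPGroup.iff_card.1 hp
    refine ⟨k, ?_⟩
    refine (index_dvd_of_le (inf_le_left : H' ⊓ f.ker ≤ H')).trans ?_
    rw [← relIndex_mul_index (inf_le_right : H' ⊓ f.ker ≤ f.ker), inf_relIndex_right, mul_comm]
    refine mul_dvd_mul ?_ (dvd_of_eq ?_)
    · rw [index_ker]
      exact (card_subgroup_dvd_card _).trans (card_mulAut_dvd_six hW)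
    · exact hk
  obtain ⟨o, ho⟩ := heven
  rw [ho, show 6 * 2 ^ k = 2 * (3 * 2 ^ k) by ring,
    Nat.mul_dvd_mul_iff_left (by norm_num)] at hk
  have hoodd : ¬ 2 ∣ o := fun h => h4 (ho ▸ mul_dvd_mul_left 2 h)
  have h3 : o ∣ 3 :=
    ((Nat.Coprime.pow_right k ((Nat.prime_two.coprime_iff_not_dvd.2 hoodd).symm))).dvd_of_dvd_mul_right hk
  rcases (Nat.dvd_prime Nat.prime_three).1 h3 with rfl | rfl
  · left; omega
  · right; omega

/-- Bound for the 2-subgroups normalising `Q`, from a bound inside the Sylow subgroup. -/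
lemma card_le_of_sylow [Finite G] (S : Sylow 2 G) {Q P : Subgroup G} (hP : IsPGroup 2 P)
    (hQP : Q ≤ P) (hPN : P ≤ normalizer (Q : Set G)) {m : ℕ}
    (h : ∀ g : G, ∀ Q' : Subgroup (S : Subgroup G),
      Q'.map (S : Subgroup G).subtype = Q.map (MulAut.conj g).toMonoidHom →
      Nat.card (normalizer (Q' : Set (S : Subgroup G))) ≤ m) :
    Nat.card P ≤ m := by
  haveI := Fact.mk Nat.prime_two
  obtain ⟨P', hP'⟩ := hP.exists_le_sylow
  obtain ⟨g, hg⟩ := MulAction.exists_smul_eq G P' S
  have hPS : P.map (MulAut.conj g).toMonoidHom ≤ (S : Subgroup G) := by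
    rw [← hg, Sylow.coe_subgroup_smul]
    exact map_mono hP'
  have hQS : Q.map (MulAut.conj g).toMonoidHom ≤ (S : Subgroup G) := (map_mono hQP).trans hPS
  set Q' := (Q.map (MulAut.conj g).toMonoidHom).subgroupOf (S : Subgroup G) with hQ'
  refine le_trans ?_ (h g Q' (map_subgroupOf_eq_of_le hQS))
  have hle : (P.map (MulAut.conj g).toMonoidHom).subgroupOf (S : Subgroup G) ≤
      normalizer (Q' : Set (S : Subgroup G)) := by
    intro x hx
    obtain ⟨p, hp, hpx⟩ := hx
    have hpn := mem_normalizer_iff.1 (hPN hp)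
    rw [mem_normalizer_iff]
    intro y
    simp only [hQ', mem_subgroupOf, mem_map_equiv, Subgroup.coe_mul, Subgroup.coe_inv,
      Subgroup.coe_subtype] at hpx ⊢
    rw [← hpx]
    rw [hpn ((MulAut.conj g).symm (y : G))]
    simp [mul_assoc]
  refine le_trans (le_of_eq ?_) (card_le_of_le hle)
  rw [Nat.card_congr (subgroupOfEquivOfLe hPS).toEquiv,
    card_map_of_injective (MulAut.conj g).injective]

/-- `MulAut Q → MulAut (Q ⧸ Z(Q))`. -/
def autCenterQuot (Q : Type*) [Group Q] : MulAut Q →* MulAut (Q ⧸ center Q) where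
  toFun φ := QuotientGroup.congr _ _ φ (characteristic_iff_map_eq.1 inferInstance φ)
  map_one' := by
    ext x
    induction x using QuotientGroup.induction_on with | H x => ?_
    rfl
  map_mul' φ ψ := by
    ext x
    induction x using QuotientGroup.induction_on with | H x => ?_
    rfl

section Quaternion

variable {Q : Type*} [Group Q] (e : Q ≃* QuaternionGroup 2)
include e

lemma q8_card : Nat.card Q = 8 := by
  rw [Nat.card_congr e.toEquiv, Nat.card_eq_fintype_card, QuaternionGroup.card]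

lemma q8_center {c : Q} : c ∈ center Q ↔ c = 1 ∨ c = e.symm (.a 2) := by
  have h : ∀ x : QuaternionGroup 2, (∀ y, y * x = x * y) ↔ x = 1 ∨ x = .a 2 := by decide
  rw [mem_center_iff]
  refine Iff.trans ⟨fun hc y => ?_, fun hc y => ?_⟩ ((h (e c)).trans ?_)
  · simpa using congrArg e (hc (e.symm y))
  · exact e.injective (by simpa using hc (e y))
  · rw [e.map_eq_one_iff, ← MulEquiv.eq_symm_apply]

lemma q8_sq {x : Q} (hx : x ∉ center Q) : x * x = e.symm (.a 2) := by
  have h : ∀ x : QuaternionGroup 2, x = 1 ∨ x = .a 2 ∨ x * x = .a 2 := by decide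
  rcases h (e x) with h1 | h1 | h1
  · exact absurd ((q8_center e).2 (Or.inl (e.map_eq_one_iff.1 h1))) hx
  · exact absurd ((q8_center e).2 (Or.inr (by rw [← h1, e.symm_apply_apply]))) hx
  · rw [← h1, map_mul, e.symm_apply_apply]

lemma q8_center_sq {c : Q} (hc : c ∈ center Q) : c * c = 1 := by
  rcases (q8_center e).1 hc with rfl | rfl
  · simp
  · rw [← map_mul, ← map_one e.symm]; congr 1

lemma q8_card_quot : Nat.card (Q ⧸ center Q) = 4 := by
  haveI : Finite Q := Nat.finite_of_card_ne_zero (by rw [q8_card e]; omega)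
  have hne : e.symm (.a 2) ≠ 1 := by
    rw [Ne, MulEquiv.map_eq_one_iff]; decide
  have hc : Nat.card (center Q) = 2 := by
    rw [← SetLike.coe_sort_coe, Nat.card_coe_set_eq,
      show (center Q : Set Q) = {1, e.symm (.a 2)} from Set.ext fun c => q8_center e,
      Set.ncard_pair hne.symm]
  have := card_eq_card_quotient_mul_card_subgroup (center Q)
  rw [q8_card e, hc] at this
  omega

lemma q8_fixed_of_odd {φ : MulAut Q} (h : autCenterQuot Q φ = 1) : φ * φ = 1 := by
  ext x
  have hx : ((φ x : Q) : Q ⧸ center Q) = (x : Q ⧸ center Q) :=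
    DFunLike.congr_fun h (x : Q ⧸ center Q)
  set c := x⁻¹ * φ x with hc
  have hcc : c ∈ center Q := QuotientGroup.eq.1 hx.symm
  have hfix : φ c = c := by
    rcases (q8_center e).1 hcc with h1 | h1
    · rw [h1, map_one]
    · have h2 : φ c ∈ center Q := by
        rw [← characteristic_iff_map_eq.1 (inferInstance : (center Q).Characteristic) φ]
        exact ⟨c, hcc, rfl⟩
      rcases (q8_center e).1 h2 with h3 | h3
      · rw [h3]; exact ((MulEquiv.map_eq_one_iff φ).1 h3).symm
      · rw [h3, h1]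
  have he : φ x = x * c := (mul_inv_cancel_left x _).symm
  show φ (φ x) = x
  rw [he, map_mul, hfix, he, mul_assoc, q8_center_sq e hcc, mul_one]

end Quaternion

/-- An element of odd order inducing an automorphism of a quaternion subgroup that is trivial modulo
the centre centralises it. -/
lemma q8_centralizes [Finite G] {Q : Subgroup G} (e : Q ≃* QuaternionGroup 2)
    {g : normalizer (Q : Set G)} (h : autCenterQuot Q (Q.normalizerMonoidHom g) = 1)
    (hg : Odd (orderOf (g : G))) : (g : G) ∈ centralizer (Q : Set G) := by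
  have h2 := q8_fixed_of_odd e h
  have : g ∈ (Q.normalizerMonoidHom).ker := by
    rw [MonoidHom.mem_ker]
    obtain ⟨j, hj⟩ := hg
    rw [Subgroup.orderOf_coe] at hj
    have e1 : g = (g * g) ^ (j + 1) := by
      rw [← pow_two, ← pow_mul, show 2 * (j + 1) = orderOf g + 1 by omega, pow_succ,
        pow_orderOf_eq_one, one_mul]
    rw [e1, map_pow, map_mul, h2, one_pow]
  rwa [normalizerMonoidHom_ker, mem_subgroupOf] at this

end Cfsg.Agent.QDWreath

namespace Cfsg.Agent.QDWreath

variable {G : Type*} [Group G]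

lemma mem_normalizer_of_subgroupOf {K T : Subgroup G} (hTK : T ≤ K) {g : K}
    (hg : g ∈ normalizer (T.subgroupOf K : Set K)) : (g : G) ∈ normalizer (T : Set G) := by
  rw [mem_normalizer_iff] at hg ⊢
  intro x
  refine ⟨fun hx => ?_, fun hx => ?_⟩
  · simpa [mem_subgroupOf] using (hg ⟨x, hTK hx⟩).1 hx
  · have hxK : x ∈ K := by
      have := mul_mem (mul_mem (inv_mem g.2) (hTK hx)) g.2
      simpa [mul_assoc] using this
    simpa [mem_subgroupOf] using (hg ⟨x, hxK⟩).2 (by simpa [mem_subgroupOf] using hx)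

lemma normalizer_le_normalizer_centralizer (Q : Subgroup G) :
    normalizer (Q : Set G) ≤ normalizer ((centralizer (Q : Set G) : Subgroup G) : Set G) :=
  (normal_subgroupOf_iff_le_normalizer (centralizer_le_normalizer _)).1 inferInstance

lemma mem_sup_centralizer {Q : Subgroup G} {g : G} (hg : g ∈ Q ⊔ centralizer (Q : Set G)) :
    ∃ q ∈ Q, ∃ c ∈ centralizer (Q : Set G), g = q * c := by
  rw [← SetLike.mem_coe, coe_mul_of_right_le_normalizer_left _ _ (centralizer_le_normalizer _)] at hg
  obtain ⟨q, hq, c, hc, rfl⟩ := hg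
  exact ⟨q, hq, c, hc, rfl⟩

end Cfsg.Agent.QDWreath
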