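import Cfsg.Agent.EqLemmas

/-!
Arithmetic in `ZMod (2 ^ n)`: parity, the element `2 ^ (n-1)` of order two.
-/

set_option autoImplicit false

namespace Cfsg.Agent.QDWreath

/-- `2 ^ k` in `ZMod (2 ^ n)`. -/
def tp (n k : ℕ) : ZMod (2 ^ n) := ((2 ^ k : ℕ) : ZMod (2 ^ n))

lemma tp_succ (n k : ℕ) : tp n (k + 1) = 2 * tp n k := by
  simp [tp, pow_succ, mul_comm]

lemma two_mul_tp (n k l : ℕ) (h : l = k + 1) : 2 * tp n k = tp n l := by
  subst h; rw [tp_succ]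

lemma tp_eq_zero (n k : ℕ) (h : n ≤ k) : tp n k = 0 := by
  unfold tp
  rw [ZMod.natCast_eq_zero_iff]
  exact pow_dvd_pow 2 h

lemma tp_ne_zero (n k : ℕ) (h : k < n) : tp n k ≠ 0 := by
  unfold tp
  rw [Ne, ZMod.natCast_eq_zero_iff, Nat.pow_dvd_pow_iff_le_right (by norm_num)]
  omega

lemma tp_mul_tp (n k l : ℕ) : tp n k * tp n l = tp n (k + l) := by
  simp [tp, pow_add]

lemma tp_zero (n : ℕ) : tp n 0 = 1 := by simp [tp]

lemma tp_one (n : ℕ) : tp n 1 = 2 := by simp [tp]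

lemma even_or_odd {n : ℕ} (x : ZMod (2 ^ n)) : ∃ k, x = 2 * k ∨ x = 2 * k + 1 := by
  obtain ⟨z, rfl⟩ := ZMod.intCast_surjective x
  rcases Int.even_or_odd' z with ⟨w, hw | hw⟩
  · exact ⟨(w : ZMod (2 ^ n)), Or.inl (by subst hw; push_cast; ring)⟩
  · exact ⟨(w : ZMod (2 ^ n)), Or.inr (by subst hw; push_cast; ring)⟩

lemma two_mul_ne_odd {n : ℕ} (hn : 1 ≤ n) (k l : ZMod (2 ^ n)) : 2 * k ≠ 2 * l + 1 := by
  intro h
  have := congrArg (ZMod.castHom (dvd_pow_self 2 (by omega) : 2 ∣ 2 ^ n) (ZMod 2)) h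
  simp only [map_mul, map_add, map_one, map_ofNat] at this
  have h2 : (2 : ZMod 2) = 0 := rfl
  rw [h2, zero_mul, zero_mul, zero_add] at this
  exact zero_ne_one this

lemma two_mul_eq_zero {n : ℕ} (hn : 1 ≤ n) {x : ZMod (2 ^ n)} :
    2 * x = 0 ↔ x = 0 ∨ x = tp n (n - 1) := by
  constructor
  · intro h
    obtain ⟨z, rfl⟩ := ZMod.intCast_surjective x
    have h' : ((2 * z : ℤ) : ZMod (2 ^ n)) = 0 := by simpa using h
    rw [ZMod.intCast_zmod_eq_zero_iff_dvd] at h'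
    obtain ⟨w, hw⟩ := h'
    have hp : ((2 ^ n : ℕ) : ℤ) = 2 * ((2 ^ (n - 1) : ℕ) : ℤ) := by
      have : n = n - 1 + 1 := by omega
      rw [this, pow_succ]; push_cast; ring
    rw [hp, mul_assoc] at hw
    have hz : z = ((2 ^ (n - 1) : ℕ) : ℤ) * w := mul_left_cancel₀ (by norm_num) hw
    rcases Int.even_or_odd' w with ⟨v, hv | hv⟩
    · left
      rw [hz, hv, ZMod.intCast_zmod_eq_zero_iff_dvd, hp]
      exact ⟨v, by ring⟩
    · right
      have h0 : ((2 ^ n : ℕ) : ZMod (2 ^ n)) = 0 := ZMod.natCast_self _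
      have hp' : (2 : ZMod (2 ^ n)) * ((2 ^ (n - 1) : ℕ) : ZMod (2 ^ n)) = 0 := by
        have := two_mul_tp n (n - 1) n (by omega)
        rw [tp_eq_zero n n le_rfl] at this
        exact this
      rw [hz, hv, Int.cast_mul, Int.cast_natCast, Int.cast_add, Int.cast_mul, Int.cast_one]
      rw [mul_add, mul_one]
      show _ = ((2 ^ (n - 1) : ℕ) : ZMod (2 ^ n))
      rw [add_eq_right]
      calc _ = (2 * ((2 ^ (n - 1) : ℕ) : ZMod (2 ^ n))) * (v : ZMod (2 ^ n)) := by push_cast; ring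
        _ = 0 := by rw [hp', zero_mul]
  · rintro (rfl | rfl)
    · simp
    · rw [two_mul_tp n (n - 1) n (by omega), tp_eq_zero n n le_rfl]

lemma two_mul_eq_two_mul {n : ℕ} (hn : 1 ≤ n) {x y : ZMod (2 ^ n)} (h : 2 * x = 2 * y) :
    x = y ∨ x = y + tp n (n - 1) := by
  have : 2 * (x - y) = 0 := by rw [mul_sub, h, sub_self]
  rcases (two_mul_eq_zero hn).1 this with h' | h'
  · exact Or.inl (sub_eq_zero.1 h')
  · exact Or.inr (by rw [← h']; ring)

lemma half_mul_two {n : ℕ} (hn : 1 ≤ n) : tp n (n - 1) * 2 = 0 := by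
  rw [mul_comm]; exact (two_mul_eq_zero hn).2 (Or.inr rfl)

lemma neg_half {n : ℕ} (hn : 1 ≤ n) : - tp n (n - 1) = tp n (n - 1) := by
  linear_combination -(half_mul_two hn)

lemma eq_add_half_iff {n : ℕ} (hn : 1 ≤ n) {x y : ZMod (2 ^ n)} :
    x = y + tp n (n - 1) ↔ y = x + tp n (n - 1) := by
  constructor <;> rintro rfl <;> linear_combination -(half_mul_two hn)

lemma isUnit_odd {n : ℕ} (k : ZMod (2 ^ n)) : IsUnit (2 * k + 1) := by
  have : IsNilpotent (2 * k) := ⟨n, by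
    rw [mul_pow]
    have := tp_eq_zero n n le_rfl
    unfold tp at this
    push_cast at this
    rw [this, zero_mul]⟩
  exact this.isUnit_add_one

lemma card_zmod (n : ℕ) : Nat.card (ZMod (2 ^ n)) = 2 ^ n := Nat.card_zmod _

end Cfsg.Agent.QDWreath
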