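import Cfsg.Agent.Lib.QDWreath.LocalIndex

/-!
Normalisers and centralisers inside quasi-dihedral and wreathed 2-groups used for the local indices.
-/

set_option autoImplicit false

open Subgroup

namespace Cfsg.Agent.QDWreath

variable {S : Type*} [Group S] {n : ℕ}

lemma card_normalizer_of_relIndex_two {T : Subgroup S}
    (h : T.relIndex (normalizer (T : Set S)) = 2) : Nat.card (normalizer (T : Set S)) = 2 * Nat.card T := by
  have h1 := (T.subgroupOf (normalizer (T : Set S))).card_mul_index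
  rw [show (T.subgroupOf (normalizer (T : Set S))).index = 2 from h,
    Nat.card_congr (subgroupOfEquivOfLe le_normalizer).toEquiv] at h1
  omega

lemma exists_normalizer_not_mem {T : Subgroup S}
    (h : T.relIndex (normalizer (T : Set S)) = 2) : ∃ g ∈ normalizer (T : Set S), g ∉ T := by
  by_contra hc
  simp only [not_exists, not_and, not_not] at hc
  rw [relIndex_eq_one.2 hc] at h
  omega

namespace QDData

variable (d : QDData S n)

lemma Shape.centralizer_le {d : QDData S n} {T : Subgroup S} {q i : ZMod (2 ^ n)}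
    (h : Shape d T q i) (hh : d.a (tp n (n - 1)) ∈ T) {g : S} (hg : ∀ x ∈ T, x * g = g * x) :
    g ∈ T := by
  have hbi : d.b i ∈ T := by simpa using h.b_mem 0
  have key : ∀ j, d.b i * d.a j = d.a j * d.b i → d.a j ∈ T := fun j hj => by
    rcases d.commute_a_b.1 hj.symm with rfl | rfl
    · simp
    · exact hh
  rcases d.cases g with ⟨j, rfl⟩ | ⟨j, rfl⟩
  · exact key j (hg _ hbi)
  · have e : d.b j = d.a (j - i) * d.b i := by rw [a_mul_b, sub_add_cancel]
    rw [e]
    refine mul_mem (key _ ?_) hbi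
    have h1 := hg _ hbi
    rw [e, ← mul_assoc] at h1
    exact mul_right_cancel h1

include d

lemma klein_local {T : Subgroup S} (hT : IsKleinFour T) :
    T.relIndex (normalizer (T : Set S)) = 2 ∧ ∀ g, (∀ x ∈ T, x * g = g * x) → g ∈ T := by
  have hn := d.hn
  obtain ⟨k, hk⟩ := d.klein_shape hT
  refine ⟨Shape.relIndex_normalizer hk (p := tp n (n - 2)) (c := 1) d.half_eq_two_mul (one_mul _).symm
    (fun l hl => ?_), fun g hg => Shape.centralizer_le hk ?_ hg⟩
  · refine tp_ne_zero n (n - 1) (by omega) ?_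
    linear_combination d.half_eq_two_mul + 2 * hl + l * half_mul_two d.one_le
  · simpa using hk.a_mem 1

lemma quaternion_local {Q : Subgroup S} (e : Q ≃* QuaternionGroup 2) :
    Q.relIndex (normalizer (Q : Set S)) = 2 ∧ ∀ g, (∀ x ∈ Q, x * g = g * x) → g ∈ Q := by
  have hn := d.hn
  obtain ⟨k, hk⟩ := d.quaternion_shape e
  have hq : tp n (n - 2) = 2 * tp n (n - 3) := (two_mul_tp n (n - 3) (n - 2) (by omega)).symm
  refine ⟨Shape.relIndex_normalizer hk (p := tp n (n - 3)) (c := 2) hq d.half_eq_two_mul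
    (fun l hl => ?_), fun g hg => Shape.centralizer_le hk ?_ hg⟩
  · refine tp_ne_zero n (n - 1) (by omega) ?_
    linear_combination d.half_eq_two_mul + 2 * hq + 4 * hl + 2 * l * (-d.half_eq_two_mul) +
      2 * l * half_mul_two d.one_le - 2 * l * half_mul_two d.one_le + l * half_mul_two d.one_le
  · rw [d.half_eq_two_mul]; exact hk.a_mem 2

end QDData

namespace WrData

variable (d : WrData S n)
include d

lemma q8_elements {Q : Subgroup S} (e : Q ≃* QuaternionGroup 2) :
    ∀ i j, d.a i j ∈ Q → i - j = 0 ∨ i - j = tp n (n - 1) := by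
  intro i j hij
  have hz : ∀ c : Q, c ∈ center Q → ∀ k l, (c : S) = d.a k l → k = l := by
    intro c hc k l hkl
    by_contra hne
    have hall : ∀ x ∈ Q, ∃ p r, x = d.a p r := by
      intro x hx
      rcases d.cases x with h | ⟨p, r, rfl⟩
      · exact h
      · have hcomm := congrArg Subtype.val (mem_center_iff.1 hc ⟨_, hx⟩)
        rw [Subgroup.coe_mul, Subgroup.coe_mul, hkl, b_mul_a, a_mul_b, b_inj] at hcomm
        exact absurd (by linear_combination -hcomm.1) hne
    have hdec : ∃ x y : QuaternionGroup 2, x * y ≠ y * x := by decide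
    obtain ⟨x, y, hxy⟩ := hdec
    apply hxy
    obtain ⟨p, r, hpr⟩ := hall _ (e.symm x).2
    obtain ⟨p', r', hpr'⟩ := hall _ (e.symm y).2
    apply e.symm.injective
    rw [map_mul, map_mul]
    ext
    rw [Subgroup.coe_mul, Subgroup.coe_mul, hpr, hpr', a_mul_a, a_mul_a, add_comm p, add_comm r]
  by_cases hc : (⟨_, hij⟩ : Q) ∈ center Q
  · exact Or.inl (sub_eq_zero.2 (hz _ hc i j rfl))
  · have hsq := q8_sq e hc
    have hcen : e.symm (.a 2) ∈ center Q := (q8_center e).2 (Or.inr rfl)
    have h2 := congrArg Subtype.val hsq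
    rw [Subgroup.coe_mul, a_mul_a] at h2
    have := hz _ hcen _ _ h2.symm
    refine (two_mul_eq_zero d.one_le).1 ?_
    linear_combination this

lemma q8_exists {Q : Subgroup S} (e : Q ≃* QuaternionGroup 2) :
    (∃ i j, d.b i j ∈ Q) ∧ ∃ i j, i - j = tp n (n - 1) ∧ d.a i j ∈ Q := by
  have hdec : ∀ x y : QuaternionGroup 2, x * y ≠ y * x → x * (x * y) ≠ (x * y) * x := by decide
  have hdec2 : ∃ x y : QuaternionGroup 2, x * y ≠ y * x := by decide
  obtain ⟨x, y, hxy⟩ := hdec2
  have hxy' : (e.symm x : S) * e.symm y ≠ e.symm y * e.symm x := fun h => hxy (by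
    apply e.symm.injective
    rw [map_mul, map_mul]; exact Subtype.ext h)
  -- a `b`-element
  obtain ⟨i, j, hb⟩ : ∃ i j, d.b i j ∈ Q := by
    by_contra hne
    simp only [not_exists] at hne
    have hall : ∀ z ∈ Q, ∃ p r, z = d.a p r := fun z hz => by
      rcases d.cases z with h | ⟨p, r, rfl⟩
      · exact h
      · exact absurd hz (hne p r)
    obtain ⟨p, r, h1⟩ := hall _ (e.symm x).2
    obtain ⟨p', r', h2⟩ := hall _ (e.symm y).2
    exact hxy' (by rw [h1, h2, a_mul_a, a_mul_a, add_comm p, add_comm r])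
  refine ⟨⟨i, j, hb⟩, ?_⟩
  -- a non-central `a`-element
  suffices h : ∃ p r, d.a p r ∈ Q ∧ ∃ z ∈ Q, z * d.a p r ≠ d.a p r * z by
    obtain ⟨p, r, hpr, z, hz, hne⟩ := h
    refine ⟨p, r, (d.q8_elements e p r hpr).resolve_left fun h0 => hne ?_, hpr⟩
    rw [sub_eq_zero] at h0
    subst h0
    exact mem_center_iff.1 (d.mem_center.2 ⟨p, rfl⟩) z
  rcases d.cases (e.symm x : S) with ⟨p, r, h1⟩ | ⟨p, r, h1⟩
  · exact ⟨p, r, h1 ▸ (e.symm x).2, _, (e.symm y).2, h1 ▸ hxy'.symm⟩
  · rcases d.cases (e.symm y : S) with ⟨p', r', h2⟩ | ⟨p', r', h2⟩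
    · exact ⟨p', r', h2 ▸ (e.symm y).2, _, (e.symm x).2, h2 ▸ hxy'⟩
    · refine ⟨p + r', r + p', ?_, _, (e.symm x).2, ?_⟩
      · rw [← b_mul_b, ← h1, ← h2]
        exact mul_mem (e.symm x).2 (e.symm y).2
      · rw [← b_mul_b, ← h1, ← h2]
        intro h
        exact hdec x y hxy (by
          apply e.symm.injective
          simp only [map_mul]
          exact Subtype.ext h)

lemma q8_centralizer {Q : Subgroup S} (e : Q ≃* QuaternionGroup 2) {g : S}
    (hg : ∀ x ∈ Q, x * g = g * x) : g ∈ center S := by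
  obtain ⟨⟨i, j, hb⟩, p, r, hpr, ha⟩ := d.q8_exists e
  have hh : tp n (n - 1) ≠ 0 := tp_ne_zero n (n - 1) (by have := d.hn; omega)
  rw [d.mem_center]
  rcases d.cases g with ⟨k, l, rfl⟩ | ⟨k, l, rfl⟩
  · have h := hg _ hb
    rw [b_mul_a, a_mul_b, b_inj] at h
    exact ⟨k, by rw [show l = k by linear_combination h.1]⟩
  · have h := hg _ ha
    rw [b_mul_a, a_mul_b, b_inj] at h
    exact absurd (by linear_combination h.1 - hpr) hh

/-- `m`-coordinates of `Q Z(S)`. -/
lemma qz_shape {Q : Subgroup S} (e : Q ≃* QuaternionGroup 2) :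
    ∃ m, (∀ i j, d.a i j ∈ Q ⊔ center S ↔ i - j = 0 ∨ i - j = tp n (n - 1)) ∧
      ∀ i j, d.b i j ∈ Q ⊔ center S ↔ j - i = m ∨ j - i = m + tp n (n - 1) := by
  obtain ⟨⟨i₀, j₀, hb⟩, p, r, hpr, ha⟩ := d.q8_exists e
  have hh2 := half_mul_two (n := n) d.one_le
  have hdec : ∀ g ∈ Q ⊔ center S, ∃ x ∈ Q, ∃ c, g = x * d.a c c := by
    intro g hg
    rw [mem_sup_of_normal_right] at hg
    obtain ⟨x, hx, z, hz, rfl⟩ := hg
    obtain ⟨c, rfl⟩ := d.mem_center.1 hz
    exact ⟨x, hx, c, rfl⟩
  have hsa : ∀ c x, x ∈ Q ⊔ center S → x * d.a c c ∈ Q ⊔ center S := fun c x hx =>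
    mul_mem hx (mem_sup_right (d.mem_center.2 ⟨c, rfl⟩))
  refine ⟨j₀ - i₀, fun i j => ⟨fun h => ?_, fun h => ?_⟩, fun i j => ⟨fun h => ?_, fun h => ?_⟩⟩
  · obtain ⟨x, hx, c, hxc⟩ := hdec _ h
    rcases d.cases x with ⟨k, l, rfl⟩ | ⟨k, l, rfl⟩
    · rw [a_mul_a, a_inj] at hxc
      rw [hxc.1, hxc.2, add_sub_add_right_eq_sub]
      exact d.q8_elements e k l hx
    · rw [b_mul_a] at hxc
      exact absurd hxc (d.a_ne_b _ _ _ _)
  · rcases h with h | h
    · rw [sub_eq_zero] at h; subst h
      exact mem_sup_right (d.mem_center.2 ⟨i, rfl⟩)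
    · have := hsa (i - p) _ (mem_sup_left ha)
      rw [a_mul_a] at this
      convert this using 2 <;> first | ring1 | linear_combination -h + hpr
  · obtain ⟨x, hx, c, hxc⟩ := hdec _ h
    rcases d.cases x with ⟨k, l, rfl⟩ | ⟨k, l, rfl⟩
    · rw [a_mul_a] at hxc
      exact absurd hxc.symm (d.a_ne_b _ _ _ _)
    · rw [b_mul_a, b_inj] at hxc
      have hm := mul_mem hx hb
      rw [b_mul_b] at hm
      rcases d.q8_elements e _ _ hm with h1 | h1
      · left; linear_combination hxc.2 - hxc.1 - h1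
      · right; linear_combination hxc.2 - hxc.1 - h1 - hh2
  · rcases h with h | h
    · have := hsa (i - i₀) _ (mem_sup_left hb)
      rw [b_mul_a] at this
      convert this using 2 <;> first | ring1 | linear_combination h
    · have := hsa (i - i₀ - r) _ (mem_sup_left (mul_mem hb ha))
      rw [b_mul_a, b_mul_a] at this
      convert this using 2 <;> first | ring1 | linear_combination h - hpr

lemma qz_ne_top {Q : Subgroup S} (e : Q ≃* QuaternionGroup 2) : Q ⊔ center S ≠ ⊤ := by
  intro h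
  obtain ⟨m, hA, -⟩ := d.qz_shape e
  have hn := d.hn
  rcases (hA 1 0).1 (h ▸ mem_top _) with h1 | h1
  · exact d.nontrivial (by linear_combination h1)
  · refine tp_ne_zero n 1 (by omega) ?_
    rw [tp_one]
    linear_combination 2 * h1 + half_mul_two d.one_le

lemma qz_normalizer {Q : Subgroup S} (e : Q ≃* QuaternionGroup 2) :
    Nat.card (normalizer ((Q ⊔ center S : Subgroup S) : Set S)) ≤
      2 * Nat.card (Q ⊔ center S : Subgroup S) := by
  haveI := d.finite
  obtain ⟨⟨i₀, j₀, hb⟩, -⟩ := d.q8_exists e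
  obtain ⟨m, hA, hB⟩ := d.qz_shape e
  set V := Q ⊔ center S with hV
  have hn := d.hn
  have hhq : tp n (n - 1) = 2 * tp n (n - 2) := (two_mul_tp n (n - 2) (n - 1) (by omega)).symm
  have haN : ∀ k l, d.a k l ∈ normalizer (V : Set S) →
      d.a k l ∈ V ∨ d.a (k - tp n (n - 2)) l ∈ V := by
    intro k l h
    have hconj := (mem_normalizer_iff.1 h (d.b i₀ j₀)).1 (mem_sup_left hb)
    rw [conj_a_b] at hconj
    have h2 : 2 * (k - l) = 0 ∨ 2 * (k - l) = tp n (n - 1) := by
      rcases (hB _ _).1 hconj with h1 | h1 <;>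
        rcases (hB i₀ j₀).1 (mem_sup_left hb) with h0 | h0
      · left; linear_combination -h1 + h0
      · right; linear_combination -h1 + h0
      · right; linear_combination -h1 + h0 - half_mul_two d.one_le
      · left; linear_combination -h1 + h0
    rcases h2 with h2 | h2
    · exact Or.inl ((hA k l).2 ((two_mul_eq_zero d.one_le).1 h2))
    · rw [hhq] at h2
      refine Or.inr ((hA _ l).2 ?_)
      rcases two_mul_eq_two_mul d.one_le h2 with h3 | h3
      · left; linear_combination h3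
      · right; linear_combination h3
  have hsub : (normalizer (V : Set S) : Set S) ⊆
      (V : Set S) ∪ (fun x => d.a (tp n (n - 2)) 0 * x) '' (V : Set S) := by
    intro g hg
    rcases d.cases g with ⟨k, l, rfl⟩ | ⟨k, l, rfl⟩
    · rcases haN k l hg with h | h
      · exact Or.inl h
      · exact Or.inr ⟨_, h, by show d.a _ _ * d.a _ _ = _; rw [a_mul_a, add_sub_cancel, zero_add]⟩
    · have e1 : d.b k l = d.a (k - i₀) (l - j₀) * d.b i₀ j₀ := by
        rw [a_mul_b, sub_add_cancel, sub_add_cancel]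
      have hbV : d.b i₀ j₀ ∈ V := mem_sup_left hb
      have ha' : d.a (k - i₀) (l - j₀) ∈ normalizer (V : Set S) := by
        have hg' : d.b k l ∈ normalizer (V : Set S) := hg
        rw [e1] at hg'
        exact (mul_mem_cancel_right (le_normalizer hbV)).1 hg'
      rcases haN _ _ ha' with h | h
      · left; rw [e1]; exact mul_mem h hbV
      · refine Or.inr ⟨_, mul_mem h hbV, ?_⟩
        show d.a _ _ * (d.a _ _ * _) = _
        rw [← mul_assoc, a_mul_a, add_sub_cancel, zero_add, e1]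
  have := (Set.ncard_le_ncard hsub).trans (Set.ncard_union_le _ _)
  have h2 := Set.ncard_image_le (f := fun x => d.a (tp n (n - 2)) 0 * x) (V : Set S).toFinite
  rw [← Nat.card_coe_set_eq, ← Nat.card_coe_set_eq (V : Set S), SetLike.coe_sort_coe,
    SetLike.coe_sort_coe] at this
  rw [← Nat.card_coe_set_eq (V : Set S), SetLike.coe_sort_coe] at h2
  omega

end WrData

end Cfsg.Agent.QDWreath
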